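import Mathlib
import Cfsg.Agent.Core.Cores
import Cfsg.Agent.Core.PiSeparable
import Cfsg.Agent.FGS2.CyclicSylowCA
import Cfsg.Agent.Transfer.Burnside
import Cfsg.Agent.Blocks.PPart

/-!
Groups with cyclic Sylow subgroups generated by two elements of order `p`, and the resulting
sum over pairs.
-/

set_option autoImplicit false
set_option linter.style.haveILetI false
set_option linter.unusedSectionVars false

namespace Cfsg.Agent.FGS4.CyclicPairs

open Cfsg Cfsg.Agent
open scoped Pointwise

universe u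

variable {p : ℕ} [hp : Fact p.Prime]

/-- All Sylow subgroups are cyclic if one is. -/
theorem sylow_cyclic {G : Type*} [Group G] [Finite G] (P : Sylow p G) (hP : IsCyclic (P : Subgroup G))
    (Q : Sylow p G) : IsCyclic (Q : Subgroup G) := by
  haveI := hP
  exact isCyclic_of_surjective (P.equiv Q).toMonoidHom (P.equiv Q).surjective

/-- Cyclic Sylow subgroups pass to subgroups. -/
theorem cyclic_subgroup {G : Type*} [Group G] [Finite G] (P : Sylow p G)
    (hP : IsCyclic (P : Subgroup G)) (H : Subgroup G) (Q : Sylow p H) : IsCyclic (Q : Subgroup H) := by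
  obtain ⟨R, hR⟩ := (Q.isPGroup'.map H.subtype).exists_le_sylow
  haveI := sylow_cyclic P hP R
  haveI : IsCyclic ((Q : Subgroup H).map H.subtype) :=
    isCyclic_of_injective (Subgroup.inclusion hR) (Subgroup.inclusion_injective hR)
  exact isCyclic_of_injective ((Q : Subgroup H).equivMapOfInjective _ H.subtype_injective).toMonoidHom
    (MulEquiv.injective _)

/-- Cyclic Sylow subgroups pass to quotients. -/
theorem cyclic_quotient {G : Type*} [Group G] [Finite G] (P : Sylow p G)
    (hP : IsCyclic (P : Subgroup G)) (N : Subgroup G) [N.Normal] (Q : Sylow p (G ⧸ N)) :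
    IsCyclic (Q : Subgroup (G ⧸ N)) := by
  refine sylow_cyclic (P.mapSurjective (QuotientGroup.mk'_surjective N)) ?_ Q
  haveI := hP
  rw [Sylow.coe_mapSurjective]
  exact isCyclic_of_surjective ((QuotientGroup.mk' N).subgroupMap (P : Subgroup G))
    (MonoidHom.subgroupMap_surjective _ _)

/-- Two subgroups of order `p` in a common `p`-subgroup coincide. -/
theorem eq_of_order_p {G : Type*} [Group G] [Finite G] (P : Sylow p G)
    (hP : IsCyclic (P : Subgroup G)) {R X Y : Subgroup G} (hR : IsPGroup p R) (hX : X ≤ R) (hY : Y ≤ R)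
    (hc : Nat.card X = Nat.card Y) : X = Y := by
  obtain ⟨S, hS⟩ := hR.exists_le_sylow
  exact OddLocal.eq_of_card_eq_of_isCyclic (sylow_cyclic P hP S) (hX.trans hS) (hY.trans hS) hc

/-- A group with normal `p`-subgroup, generated by two elements of order `p`, has order `p`. -/
theorem card_eq_p {Q : Type*} [Group Q] [Finite Q] (S : Sylow p Q) (hS : IsCyclic (S : Subgroup Q))
    (R : Subgroup Q) [R.Normal] (hR : IsPGroup p R) (hR1 : R ≠ ⊥) {x y : Q} (hx : orderOf x = p)
    (hy : y ^ p = 1) (hgen : Subgroup.closure ({x, y} : Set Q) = ⊤) : Nat.card Q = p := by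
  haveI : Nontrivial R := (Subgroup.nontrivial_iff_ne_bot R).2 hR1
  obtain ⟨z, hz⟩ := exists_prime_orderOf_dvd_card' (G := R) p
    ((hR.card_eq_or_dvd).resolve_left Finite.one_lt_card.ne')
  have hZR : Subgroup.zpowers (z : Q) ≤ R := Subgroup.zpowers_le.2 z.2
  have hZc : Nat.card (Subgroup.zpowers (z : Q)) = p := by
    rw [Nat.card_zpowers, Subgroup.orderOf_coe, hz]
  have key : ∀ q : Q, orderOf q = p → q ∈ Subgroup.zpowers (z : Q) := by
    intro q hq
    have hqp : IsPGroup p (Subgroup.zpowers q) :=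
      IsPGroup.of_card (n := 1) (by rw [Nat.card_zpowers, hq, pow_one])
    have h := eq_of_order_p S hS (hqp.to_sup_of_normal_right hR)
      (le_sup_left : Subgroup.zpowers q ≤ Subgroup.zpowers q ⊔ R) (hZR.trans le_sup_right)
      (by rw [Nat.card_zpowers, hq, hZc])
    exact h ▸ Subgroup.mem_zpowers q
  have htop : Subgroup.zpowers (z : Q) = ⊤ := by
    rw [eq_top_iff, ← hgen, Subgroup.closure_le]
    intro q hq
    rcases hq with rfl | rfl
    · exact key _ hx
    · rcases (Nat.dvd_prime hp.out).1 (orderOf_dvd_of_pow_eq_one hy) with h | h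
      · rw [orderOf_eq_one_iff.1 h]; exact one_mem _
      · exact key _ h
  rw [← Subgroup.card_top (G := Q), ← htop, hZc]

/-- A `p`-solvable group generated by two elements of order `p`, with cyclic Sylow subgroups. -/
theorem index_pPrimeCore {H : Type*} [Group H] [Finite H] (hs : IsPSolvable p H)
    (P : Sylow p H) (hP : IsCyclic (P : Subgroup H)) {x y : H} (hx : orderOf x = p) (hy : orderOf y = p)
    (hgen : Subgroup.closure ({x, y} : Set H) = ⊤) : (pPrimeCore p H).index = p := by
  set K := pPrimeCore p H with hK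
  have hxK : x ∉ K := fun h => Core.not_dvd_card_pPrimeCore p H
    ((dvd_of_eq hx.symm).trans (Subgroup.orderOf_dvd_natCard _ h))
  have hxq : orderOf (QuotientGroup.mk' K x) = p :=
    orderOf_eq_prime (by rw [← map_pow, orderOf_dvd_iff_pow_eq_one.1 (dvd_of_eq hx), map_one])
      fun h => hxK ((QuotientGroup.eq_one_iff x).1 h)
  haveI : Nontrivial (H ⧸ K) := ⟨⟨QuotientGroup.mk' K x, 1, fun h => hxK ((QuotientGroup.eq_one_iff x).1 h)⟩⟩
  rw [Subgroup.index_eq_card]
  obtain ⟨S⟩ := (inferInstance : Nonempty (Sylow p (H ⧸ K)))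
  have hgenQ : Subgroup.closure ({QuotientGroup.mk' K x, QuotientGroup.mk' K y} : Set (H ⧸ K)) = ⊤ := by
    rw [← Set.image_pair (QuotientGroup.mk' K) x y, ← MonoidHom.map_closure, hgen,
      Subgroup.map_top_of_surjective _ (QuotientGroup.mk'_surjective K)]
  have hsep := (Core.isPSolvable_iff.1 (Core.isPSolvable_quotient hs K))
  rcases Core.piCore_ne_bot_or hsep with h | h
  · refine card_eq_p S (cyclic_quotient P hP K S) _ ?_ h hxq
      (by rw [← map_pow, orderOf_dvd_iff_pow_eq_one.1 (dvd_of_eq hy), map_one]) hgenQ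
    exact (Core.isPiNat_singleton_iff hp.out Nat.card_pos.ne').1 (Core.isPiNat_card_piCore {p} (H ⧸ K)) |>.elim
      fun n hn => IsPGroup.of_card hn
  · exfalso
    apply h
    rw [← Core.pPrimeCore_eq_piCore]
    exact Core.pPrimeCore_quotient_pPrimeCore p H

/-- The decomposition of an element outside the kernel of a map onto a group of order `p`. -/
theorem exists_conj_decomp {H Q : Type*} [Group H] [Finite H] [Group Q] [Finite Q] (φ : H →* Q)
    (hQ : Nat.card Q = p) (hK : ¬ p ∣ Nat.card φ.ker) (X : Subgroup H) (hX : Nat.card X = p)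
    {h : H} (hh : φ h ≠ 1) :
    ∃ c : H, ∃ x ∈ X, ∃ k : H, φ x = φ h ∧ Commute x k ∧ ¬ p ∣ orderOf k ∧ h = c * (x * k) * c⁻¹ := by
  obtain ⟨z, k, hzk, hc, ⟨j, hj⟩, hk⟩ : ∃ z k : H, h = z * k ∧ Commute z k ∧
      (∃ j : ℕ, orderOf z = p ^ j) ∧ ¬ p ∣ orderOf k := by
    haveI := Fintype.ofFinite H
    obtain ⟨k, h1, h2, h3, h4⟩ := Blocks.isPPart_ppart (p := p) h
    exact ⟨Blocks.ppart p h, k, h1.symm, h2, h3, h4⟩
  haveI : IsCyclic Q := isCyclic_of_prime_card hQ
  letI : CommGroup Q := IsCyclic.commGroup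
  have hφk : φ k = 1 := by
    have h1 : orderOf (φ k) ∣ p := hQ ▸ orderOf_dvd_natCard _
    rcases (Nat.dvd_prime hp.out).1 h1 with h1 | h1
    · exact orderOf_eq_one_iff.1 h1
    · exact absurd (h1 ▸ orderOf_map_dvd φ k) hk
  have hφz : φ z = φ h := by rw [hzk, map_mul, hφk, mul_one]
  have hcardH : Nat.card H = Nat.card φ.ker * p := by
    rw [← Subgroup.card_mul_index φ.ker, Subgroup.index_ker,
      Subgroup.eq_top_of_card_eq φ.range ?_, Subgroup.card_top, hQ]
    refine le_antisymm (Nat.le_of_dvd Nat.card_pos (Subgroup.card_subgroup_dvd_card _)) ?_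
    rw [hQ]
    refine Nat.le_of_dvd Nat.card_pos ?_
    have : orderOf (φ h) ∣ Nat.card φ.range := Subgroup.orderOf_dvd_natCard _ ⟨h, rfl⟩
    rcases (Nat.dvd_prime hp.out).1 (hQ ▸ orderOf_dvd_natCard (φ h)) with h1 | h1
    · exact absurd (orderOf_eq_one_iff.1 h1) hh
    · rwa [h1] at this
  have hmult : p ^ (Nat.card H).factorization p = p := by
    rw [hcardH, Nat.factorization_mul (Nat.card_pos (α := φ.ker)).ne' hp.out.ne_zero, Finsupp.add_apply,
      Nat.factorization_eq_zero_of_not_dvd hK, zero_add, hp.out.factorization_self, pow_one]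
  let SX : Sylow p H := Sylow.ofCard X (by rw [hX, hmult])
  obtain ⟨R, hR⟩ := (IsPGroup.of_card (G := Subgroup.zpowers z) (n := j)
    (by rw [Nat.card_zpowers, hj])).exists_le_sylow
  obtain ⟨c, hc'⟩ := MulAction.exists_smul_eq H SX R
  have hzR : z ∈ MulAut.conj c • (X : Subgroup H) := by
    have := hR (Subgroup.mem_zpowers z)
    rw [← hc', Sylow.smul_def, Sylow.pointwise_smul_def] at this
    exact this
  obtain ⟨x, hx, hxz⟩ := (Subgroup.mem_smul_pointwise_iff_exists _ _ _).1 hzR
  refine ⟨c, x, hx, c⁻¹ * k * c, ?_, ?_, ?_, ?_⟩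
  · rw [← hφz, ← hxz]
    simp [MulAut.conj_apply, mul_comm (φ c) (φ x)]
  · change x * (c⁻¹ * k * c) = c⁻¹ * k * c * x
    have e1 : x = c⁻¹ * z * c := by rw [← hxz]; simp [MulAut.conj_apply]; group
    rw [e1]
    calc c⁻¹ * z * c * (c⁻¹ * k * c) = c⁻¹ * (z * k) * c := by group
      _ = c⁻¹ * (k * z) * c := by rw [hc.eq]
      _ = _ := by group
  · have : orderOf (c⁻¹ * k * c) = orderOf k := by
      rw [show c⁻¹ * k * c = MulAut.conj c⁻¹ k by simp [MulAut.conj_apply]]
      exact orderOf_injective (MulAut.conj c⁻¹).toMonoidHom (MulAut.conj c⁻¹).injective k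
    rwa [this]
  · have e1 : x = c⁻¹ * z * c := by rw [← hxz]; simp [MulAut.conj_apply]; group
    rw [hzk, e1]
    group

variable {G : Type u} [Group G] [Finite G]

/-- The centraliser of a non-trivial element of a cyclic Sylow subgroup has a normal complement. -/
theorem mem_centralizerPPrimeCore (P : Sylow p G) (hP : IsCyclic (P : Subgroup G)) {u k : G}
    (hu : u ∈ (P : Subgroup G)) (hu1 : u ≠ 1) (hc : Commute u k) (hk : ¬ p ∣ orderOf k) :
    k ∈ centralizerPPrimeCore p u ∧
      Nat.card (Subgroup.centralizer ({u} : Set G)) =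
        Nat.card (centralizerPPrimeCore p u) * Nat.card (P : Subgroup G) := by
  haveI := hP
  letI : CommGroup (P : Subgroup G) := IsCyclic.commGroup
  set C := Subgroup.centralizer ({u} : Set G) with hC
  have hle : (P : Subgroup G) ≤ C := fun x hx => Subgroup.mem_centralizer_singleton_iff.2
    (congrArg Subtype.val (mul_comm (⟨x, hx⟩ : (P : Subgroup G)) ⟨u, hu⟩))
  let S : Sylow p C := P.subtype hle
  haveI := Fintype.ofFinite C
  have hN : Subgroup.normalizer ((S : Subgroup C) : Set C) ≤ Subgroup.centralizer ((S : Subgroup C) : Set C) := by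
    intro w hw
    obtain ⟨l, hwl, -, ⟨j, hj⟩, hl⟩ := Blocks.isPPart_ppart (p := p) w
    set z := Blocks.ppart p w with hz
    have hzN : z ∈ Subgroup.normalizer ((S : Subgroup C) : Set C) := by
      rw [hz, Blocks.ppart]; exact pow_mem hw _
    have hlN : l ∈ Subgroup.normalizer ((S : Subgroup C) : Set C) := by
      have : l = z⁻¹ * w := by rw [← hwl]; group
      rw [this]; exact mul_mem (inv_mem hzN) hw
    have hzS : z ∈ (S : Subgroup C) := FGS2.CyclicSylow.mem_P_of_normalizer hzN ⟨j, hj⟩
    rw [Subgroup.mem_centralizer_iff]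
    intro a ha
    have haP : (a : G) ∈ (P : Subgroup G) := ha
    have hlG : (l : G) ∈ Subgroup.normalizer ((P : Subgroup G) : Set G) := by
      rw [Subgroup.mem_normalizer_iff]
      intro b
      constructor
      · intro hb
        exact (Subgroup.mem_normalizer_iff.1 hlN ⟨b, hle hb⟩).1 hb
      · intro hb
        have hbC : b ∈ C := by
          have := C.mul_mem (C.mul_mem (C.inv_mem l.2) (hle hb)) l.2
          simpa [mul_assoc] using this
        exact (Subgroup.mem_normalizer_iff.1 hlN ⟨b, hbC⟩).2 hb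
    rcases FGS2.CyclicSylow.coprime_dichotomy P.isPGroup' hP
        (by rwa [Subgroup.orderOf_coe]) hlG with h | h
    · have hla : l * a = a * l := Subtype.ext (mul_inv_eq_iff_eq_mul.1 (h a haP))
      have hzP : (z : G) ∈ (P : Subgroup G) := hzS
      have hza' : (a : G) * (z : G) = (z : G) * (a : G) :=
        congrArg (fun t : (P : Subgroup G) => (t : G))
          (mul_comm (⟨a, haP⟩ : (P : Subgroup G)) ⟨(z : G), hzP⟩)
      have hza : a * z = z * a := Subtype.ext hza'
      rw [← hwl]
      calc a * (z * l) = z * (a * l) := by rw [← mul_assoc, hza, mul_assoc]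
        _ = z * (l * a) := by rw [hla]
        _ = _ := by rw [mul_assoc]
    · exact absurd (h.1 u hu (by
        rw [Subgroup.mem_centralizer_singleton_iff.1 l.2, mul_inv_cancel_right])) hu1
  obtain ⟨S', N, hNn, hcomp⟩ := Transfer.hasNormalPComplement_of_normalizer_le_centralizer S hN
  have hNc := hcomp.card_mul
  have hScard : Nat.card S' = Nat.card (P : Subgroup G) := by
    rw [S'.card_eq_multiplicity, ← S.card_eq_multiplicity]
    exact Nat.card_congr (Subgroup.subgroupOfEquivOfLe hle).toEquiv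
  have hNp : ¬ p ∣ Nat.card N := by
    have := S'.not_dvd_index
    rwa [hcomp.index_eq_card] at this
  have hcore : pPrimeCore p C = N := by
    refine le_antisymm (fun x hx => ?_)
      (Core.le_pPrimeCore hNn ((hp.out.coprime_iff_not_dvd.2 hNp).symm))
    haveI := hNn
    rw [← QuotientGroup.eq_one_iff (N := N)]
    have h1 : orderOf (x : C ⧸ N) ∣ Nat.card S' := by
      rw [← hcomp.symm.index_eq_card, Subgroup.index_eq_card]
      exact orderOf_dvd_natCard _
    have h2 : orderOf (x : C ⧸ N) ∣ Nat.card (pPrimeCore p C) :=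
      (orderOf_map_dvd (QuotientGroup.mk' N) x).trans (Subgroup.orderOf_dvd_natCard _ hx)
    obtain ⟨n, hn⟩ := IsPGroup.iff_card.1 S'.isPGroup'
    exact orderOf_eq_one_iff.1 (Nat.eq_one_of_dvd_coprimes
      ((hn ▸ (hp.out.coprime_iff_not_dvd.2 (Core.not_dvd_card_pPrimeCore p C)).pow_left n)) h1 h2)
  refine ⟨?_, ?_⟩
  · refine Subgroup.mem_map.2 ⟨⟨k, Subgroup.mem_centralizer_singleton_iff.2 hc.symm.eq⟩, ?_, rfl⟩
    rw [hcore]
    haveI := hNn
    rw [← QuotientGroup.eq_one_iff (N := N)]
    set kk : C := ⟨k, Subgroup.mem_centralizer_singleton_iff.2 hc.symm.eq⟩ with hkk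
    have h1 : orderOf (kk : C ⧸ N) ∣ Nat.card S' := by
      rw [← hcomp.symm.index_eq_card, Subgroup.index_eq_card]
      exact orderOf_dvd_natCard _
    have h2 : orderOf (kk : C ⧸ N) ∣ orderOf k :=
      (orderOf_map_dvd (QuotientGroup.mk' N) kk).trans (by rw [← Subgroup.orderOf_coe kk])
    obtain ⟨n, hn⟩ := IsPGroup.iff_card.1 S'.isPGroup'
    exact orderOf_eq_one_iff.1 (Nat.eq_one_of_dvd_coprimes
      ((hn ▸ (hp.out.coprime_iff_not_dvd.2 hk).pow_left n)) h1 h2)
  · rw [centralizerPPrimeCore, Subgroup.card_map_of_injective C.subtype_injective, hcore, ← hScard]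
    exact hNc.symm

/-- The sum over the pairs of generators of two subgroups of order `p`. -/
theorem pair_sum (P : Sylow p G) (hP : IsCyclic (P : Subgroup G))
    (hpair : ∀ x y : G, orderOf x = p → orderOf y = p →
      IsPSolvable p ↥(Subgroup.closure ({x, y} : Set G)))
    (X : Subgroup G) [Fintype X] [DecidableEq X] (hX : Nat.card X = p) (F : G → ℂ)
    (hclass : ∀ c g : G, F (c * g * c⁻¹) = F g) (hreg : ∀ g : G, ¬ p ∣ orderOf g → F g = 0)
    (hconst : ∀ u ∈ X, u ≠ 1 → ∀ k : G, Commute u k → ¬ p ∣ orderOf k → F (u * k) = F u) (w : G) :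
    ∑ u ∈ Finset.univ.erase (1 : X), ∑ v ∈ Finset.univ.erase (1 : X),
        F ((u : G) * (w * (v : G) * w⁻¹)) =
      ((p : ℂ) - 2) * ∑ u ∈ Finset.univ.erase (1 : X), F (u : G) := by
  classical
  haveI : Nontrivial X := Finite.one_lt_card_iff_nontrivial.1 (hX ▸ hp.out.one_lt)
  obtain ⟨u0, hu0⟩ := exists_ne (1 : X)
  have hord : ∀ x : X, x ≠ 1 → orderOf (x : G) = p := by
    intro x hx
    rw [Subgroup.orderOf_coe]
    exact ((Nat.dvd_prime hp.out).1 (hX ▸ orderOf_dvd_natCard x)).resolve_left
      (fun h => hx (orderOf_eq_one_iff.1 h))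
  set x0 : G := (u0 : G) with hx0
  set y0 : G := w * (u0 : G) * w⁻¹ with hy0
  have hy0o : orderOf y0 = p := by
    rw [hy0, ← MulAut.conj_apply, MulEquiv.orderOf_eq, hord u0 hu0]
  set H := Subgroup.closure ({x0, y0} : Set G) with hH
  have hXH : X ≤ H := by
    have h1 : Subgroup.zpowers x0 = X := Subgroup.eq_of_le_of_card_ge (Subgroup.zpowers_le.2 u0.2)
      (by rw [Nat.card_zpowers, hord u0 hu0, hX])
    rw [← h1, Subgroup.zpowers_le]
    exact Subgroup.subset_closure (Set.mem_insert _ _)
  have hYH : ∀ v : X, w * (v : G) * w⁻¹ ∈ H := by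
    intro v
    have h1 : Subgroup.zpowers u0 = ⊤ := Subgroup.eq_top_of_card_eq _ (by
      rw [Nat.card_zpowers, ← Subgroup.orderOf_coe u0, hord u0 hu0, hX])
    obtain ⟨i, rfl⟩ := Subgroup.mem_zpowers_iff.1 (h1 ▸ Subgroup.mem_top v)
    rw [Subgroup.coe_zpow, ← conj_zpow]
    exact Subgroup.zpow_mem H (show y0 ∈ H from
      Subgroup.subset_closure (Set.mem_insert_of_mem x0 (Set.mem_singleton y0))) i
  obtain ⟨S⟩ := (inferInstance : Nonempty (Sylow p H))
  set K := pPrimeCore p H with hK
  have hidx : K.index = p := by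
    refine index_pPrimeCore (hpair x0 y0 (hord u0 hu0) hy0o) S (cyclic_subgroup P hP H S)
      (x := ⟨x0, Subgroup.subset_closure (Set.mem_insert _ _)⟩)
      (y := ⟨y0, Subgroup.subset_closure (Set.mem_insert_of_mem _ rfl)⟩)
      (by rw [← Subgroup.orderOf_coe]; exact hord u0 hu0) (by rw [← Subgroup.orderOf_coe]; exact hy0o) ?_
    apply Subgroup.map_injective H.subtype_injective
    rw [MonoidHom.map_closure, ← MonoidHom.range_eq_map, Subgroup.range_subtype, Set.image_pair]
    rfl
  set φ : H →* H ⧸ K := QuotientGroup.mk' K with hφ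
  have hQc : Nat.card (H ⧸ K) = p := by rw [← Subgroup.index_eq_card, hidx]
  have hKp : ¬ p ∣ Nat.card φ.ker := by
    rw [hφ, QuotientGroup.ker_mk']; exact Core.not_dvd_card_pPrimeCore p H
  set φX : X →* H ⧸ K := φ.comp (Subgroup.inclusion hXH) with hφX
  have hbij : Function.Bijective φX := by
    refine (Nat.bijective_iff_injective_and_card φX).2 ⟨?_, hX.trans hQc.symm⟩
    rw [← MonoidHom.ker_eq_bot_iff, eq_bot_iff]
    intro x hx
    rw [Subgroup.mem_bot]
    by_contra hx1
    rw [MonoidHom.mem_ker, hφX, MonoidHom.comp_apply, hφ, QuotientGroup.mk'_apply,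
      QuotientGroup.eq_one_iff] at hx
    exact Core.not_dvd_card_pPrimeCore p H
      ((dvd_of_eq (by rw [← hord x hx1, ← Subgroup.orderOf_coe]; rfl)).trans
        (Subgroup.orderOf_dvd_natCard _ hx))
  let e : X ≃* H ⧸ K := MulEquiv.ofBijective φX hbij
  let g : X → ℂ := fun x => if x = 1 then 0 else F (x : G)
  have hF : ∀ h : H, F (h : G) = g (e.symm (φ h)) := by
    intro h
    by_cases hh : φ h = 1
    · rw [hh, map_one]
      simp only [g, if_true]
      refine hreg _ ?_
      rw [Subgroup.orderOf_coe]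
      exact fun hd => Core.not_dvd_card_pPrimeCore p H (hd.trans
        (Subgroup.orderOf_dvd_natCard _ ((QuotientGroup.eq_one_iff h).1 hh)))
    · obtain ⟨c, x, hxX, k, hxh, hck, hk, hdec⟩ := exists_conj_decomp φ hQc hKp (X.subgroupOf H)
        (by rw [Nat.card_congr (Subgroup.subgroupOfEquivOfLe hXH).toEquiv, hX]) hh
      have he : e.symm (φ h) = ⟨(x : G), hxX⟩ := by
        rw [MulEquiv.symm_apply_eq, ← hxh]
        rfl
      have hne : (⟨(x : G), hxX⟩ : X) ≠ 1 := fun h1 => hh (by
        rw [← hxh, show x = 1 from Subtype.ext (congrArg Subtype.val h1 : (x : G) = 1), map_one])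
      rw [he]
      simp only [g, if_neg hne]
      rw [hdec]
      push_cast
      rw [hclass, hconst (x : G) hxX (fun h1 => hne (Subtype.ext h1)) (k : G) (congrArg Subtype.val hck.eq)
        (by rwa [Subgroup.orderOf_coe])]
  let θ : X →* X := e.symm.toMonoidHom.comp (φ.comp
    (((MulAut.conj w).toMonoidHom.comp X.subtype).codRestrict H fun v => by
      simpa [MulAut.conj_apply] using hYH v))
  have hθinj : Function.Injective θ := by
    rw [← MonoidHom.ker_eq_bot_iff, eq_bot_iff]
    intro v hv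
    rw [Subgroup.mem_bot]
    by_contra hv1
    rw [MonoidHom.mem_ker] at hv
    have h1 : φ ⟨w * (v : G) * w⁻¹, hYH v⟩ = 1 := by
      have := congrArg e hv
      rw [map_one] at this
      rw [← this]
      exact (e.apply_symm_apply _).symm
    have h2 : orderOf (⟨w * (v : G) * w⁻¹, hYH v⟩ : H) = p := by
      rw [← Subgroup.orderOf_coe]
      show orderOf (w * (v : G) * w⁻¹) = p
      rw [← MulAut.conj_apply, MulEquiv.orderOf_eq, hord v hv1]
    exact Core.not_dvd_card_pPrimeCore p H
      ((dvd_of_eq h2.symm).trans (Subgroup.orderOf_dvd_natCard _ ((QuotientGroup.eq_one_iff _).1 h1)))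
  have hθbij : Function.Bijective θ := Finite.injective_iff_bijective.1 hθinj
  have hprod : ∀ u v : X, F ((u : G) * (w * (v : G) * w⁻¹)) = g (u * θ v) := by
    intro u v
    have h1 := hF (Subgroup.inclusion hXH u * ⟨w * (v : G) * w⁻¹, hYH v⟩)
    rw [map_mul, map_mul] at h1
    refine (Eq.trans ?_ h1).trans ?_
    · rfl
    · congr 2
      exact e.symm_apply_apply u
  simp only [hprod]
  have hsum : ∑ u ∈ Finset.univ.erase (1 : X), F (u : G) = ∑ x : X, g x := by
    rw [← Finset.add_sum_erase _ g (Finset.mem_univ (1 : X))]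
    simp only [g, if_true, zero_add]
    exact Finset.sum_congr rfl fun x hx => (if_neg (Finset.mem_erase.1 hx).1).symm
  rw [hsum]
  have hrow : ∀ u : X, ∑ v ∈ Finset.univ.erase (1 : X), g (u * θ v) = (∑ x : X, g x) - g u := by
    intro u
    rw [Finset.sum_erase_eq_sub (Finset.mem_univ _), map_one, mul_one]
    congr 1
    exact ((Equiv.ofBijective θ hθbij).trans (Equiv.mulLeft u)).sum_comp g
  rw [Finset.sum_congr rfl fun u _ => hrow u, Finset.sum_sub_distrib, Finset.sum_const,
    Finset.card_erase_of_mem (Finset.mem_univ _), Finset.card_univ, ← Nat.card_eq_fintype_card, hX,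
    Finset.sum_erase_eq_sub (Finset.mem_univ _), nsmul_eq_mul, Nat.cast_sub hp.out.one_le,
    show g 1 = 0 from if_pos rfl]
  push_cast
  ring

end Cfsg.Agent.FGS4.CyclicPairs
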