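import Mathlib
import Cfsg.Agent.FGS4.CyclicPairs.Pair
import Cfsg.Agent.Blocks.PrincipalConst
import Cfsg.Agent.Blocks.Orth
import Cfsg.Agent.Chars2.OddIndexFixed
import Cfsg.Agent.BlockChar.CharCount

/-!
Weights of the principal block on a subgroup of order `p`.
-/

set_option autoImplicit false
set_option linter.style.haveILetI false
set_option linter.unusedSectionVars false

namespace Cfsg.Agent.FGS4.CyclicPairs

open Cfsg Cfsg.Agent Cfsg.Agent.Blocks
open scoped ComplexConjugate

universe u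

variable {G : Type u} [Group G] [Fintype G] {p : ℕ} [hp : Fact p.Prime] {M : Ideal AlgInt}
  [M.IsMaximal]

/-- The weight of a function on the non-trivial elements of a subgroup. -/
noncomputable def wt (X : Subgroup G) [Fintype X] [DecidableEq X] (χ : G → ℂ) : ℂ :=
  ∑ u ∈ Finset.univ.erase (1 : X), χ (u : G)

/-- The test function of a set of characters. -/
noncomputable def testFun (X : Subgroup G) [Fintype X] [DecidableEq X]
    (B : Finset (IrrCharacter G)) (g : G) : ℂ :=
  ∑ χ ∈ B, wt X (χ : G → ℂ) * (χ : G → ℂ) g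

variable {X : Subgroup G} [Fintype X] [DecidableEq X]

theorem wt_one (hX : Nat.card X = p) : wt X (fun _ : G => (1 : ℂ)) = (p : ℂ) - 1 := by
  rw [wt, Finset.sum_const, Finset.card_erase_of_mem (Finset.mem_univ _), Finset.card_univ,
    ← Nat.card_eq_fintype_card, hX, nsmul_eq_mul, mul_one, Nat.cast_sub hp.out.one_le, Nat.cast_one]

/-- The weight of a character is an integer, congruent to minus the degree. -/
theorem exists_wt_int (hX : Nat.card X = p) (χ : IrrCharacter G) :
    ∃ z : ℤ, wt X (χ : G → ℂ) = z ∧ (p : ℤ) ∣ z + charDegree (χ : G → ℂ) := by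
  obtain ⟨n, hn⟩ := Chars.exists_classInner_eq_nat
    (Chars.isCharacter_restrict (Chars.irr_isCharacter χ) X)
    (Chars.irr_isCharacter (oneChar X))
  rw [Chars.classInner_def] at hn
  have hp0 : (p : ℂ) ≠ 0 := Nat.cast_ne_zero.2 hp.out.ne_zero
  have hsum : ∑ x : X, (χ : G → ℂ) (x : G) = (p : ℂ) * n := by
    rw [← hn, hX, ← mul_assoc, mul_inv_cancel₀ hp0, one_mul]
    exact Finset.sum_congr rfl fun x _ => by rw [coe_oneChar, map_one, mul_one]
  refine ⟨(p : ℤ) * n - charDegree (χ : G → ℂ), ?_, ⟨n, by ring⟩⟩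
  rw [wt, Finset.sum_erase_eq_sub (Finset.mem_univ _), hsum, OneMemClass.coe_one,
    ← BlockChar.charDegree_cast (Chars.irr_isCharacter χ)]
  push_cast
  ring

theorem conj_wt (hX : Nat.card X = p) (χ : IrrCharacter G) :
    conj (wt X (χ : G → ℂ)) = wt X (χ : G → ℂ) := by
  obtain ⟨z, hz, -⟩ := exists_wt_int hX χ
  rw [hz, map_intCast]

theorem orderOf_coe_eq (hX : Nat.card X = p) {x : X} (hx : x ≠ 1) : orderOf (x : G) = p := by
  rw [Subgroup.orderOf_coe]
  exact ((Nat.dvd_prime hp.out).1 (hX ▸ orderOf_dvd_natCard x)).resolve_left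
    (fun h => hx (orderOf_eq_one_iff.1 h))

theorem testFun_class (B : Finset (IrrCharacter G)) (c g : G) :
    testFun X B (c * g * c⁻¹) = testFun X B g :=
  Finset.sum_congr rfl fun χ _ => by rw [Chars.isClassFunction_irr χ g c]

variable [DecidablePred (· ∈ principalBlock M G)]

/-- The principal block. -/
noncomputable def pb (M : Ideal AlgInt) [DecidablePred (· ∈ principalBlock M G)] :
    Finset (IrrCharacter G) :=
  Finset.univ.filter (· ∈ principalBlock M G)

theorem testFun_regular (hpM : (p : AlgInt) ∈ M) (hX : Nat.card X = p) {g : G}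
    (hg : ¬ p ∣ orderOf g) : testFun X (pb (G := G) M) g = 0 := by
  have h : testFun X (pb (G := G) M) g = ∑ u ∈ Finset.univ.erase (1 : X),
      ∑ χ ∈ pb (G := G) M, (χ : G → ℂ) g * conj ((χ : G → ℂ) (u : G)) := by
    rw [Finset.sum_comm, testFun]
    refine Finset.sum_congr rfl fun χ _ => ?_
    rw [← Finset.mul_sum, ← map_sum, ← wt, conj_wt hX, mul_comm]
  rw [h]
  refine Finset.sum_eq_zero fun u hu => ?_
  exact block_orth_weak hpM isPBlock_principal hg
    (dvd_of_eq (orderOf_coe_eq hX (Finset.mem_erase.1 hu).1).symm)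

theorem apply_mul_eq (hpM : (p : AlgInt) ∈ M) (P : Sylow p G) (hP : IsCyclic (P : Subgroup G))
    (hXP : X ≤ (P : Subgroup G)) (hX : Nat.card X = p) {u k : G} (hu : u ∈ X) (hu1 : u ≠ 1)
    (hc : Commute u k) (hk : ¬ p ∣ orderOf k) {χ : IrrCharacter G} (hχ : χ ∈ pb (G := G) M) :
    (χ : G → ℂ) (u * k) = (χ : G → ℂ) u :=
  apply_mul_centralizerPPrimeCore hpM
    ⟨1, by
      rw [pow_one]
      exact orderOf_coe_eq hX (x := ⟨u, hu⟩) fun h => hu1 (congrArg Subtype.val h)⟩
    (mem_centralizerPPrimeCore P hP (hXP hu) hu1 hc hk).1 (Finset.mem_filter.1 hχ).2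

/-- The identity from counting products of conjugates. -/
theorem ident (hpM : (p : AlgInt) ∈ M) (P : Sylow p G) (hP : IsCyclic (P : Subgroup G))
    (hpair : ∀ x y : G, orderOf x = p → orderOf y = p →
      IsPSolvable p ↥(Subgroup.closure ({x, y} : Set G)))
    (hXP : X ≤ (P : Subgroup G)) (hX : Nat.card X = p) :
    ∑ χ ∈ pb (G := G) M, wt X (χ : G → ℂ) ^ 3 / (χ : G → ℂ) 1 =
      ((p : ℂ) - 2) * ∑ χ ∈ pb (G := G) M, wt X (χ : G → ℂ) ^ 2 := by
  have hG : (Nat.card G : ℂ) ≠ 0 := Nat.cast_ne_zero.2 Nat.card_pos.ne'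
  apply mul_left_cancel₀ hG
  calc (Nat.card G : ℂ) * ∑ χ ∈ pb (G := G) M, wt X (χ : G → ℂ) ^ 3 / (χ : G → ℂ) 1
      = ∑ χ ∈ pb (G := G) M, wt X (χ : G → ℂ) * ∑ u ∈ Finset.univ.erase (1 : X),
          ∑ v ∈ Finset.univ.erase (1 : X), ∑ w : G, (χ : G → ℂ) ((u : G) * (w * (v : G) * w⁻¹)) := by
        rw [Finset.mul_sum]
        refine Finset.sum_congr rfl fun χ _ => ?_
        rw [Finset.sum_congr rfl fun u _ => Finset.sum_congr rfl fun v _ =>
          sum_apply_mul_conj χ (u : X).1 (v : X).1]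
        simp only [mul_div_assoc, mul_assoc, ← Finset.mul_sum]
        simp only [← Finset.sum_div, ← Finset.mul_sum, ← Finset.sum_mul]
        rw [← wt]
        ring
    _ = ∑ w : G, ∑ u ∈ Finset.univ.erase (1 : X), ∑ v ∈ Finset.univ.erase (1 : X),
          testFun X (pb (G := G) M) ((u : G) * (w * (v : G) * w⁻¹)) := by
        simp only [testFun, Finset.mul_sum]
        rw [Finset.sum_comm]
        conv_rhs => rw [Finset.sum_comm]
        refine Finset.sum_congr rfl fun u _ => ?_
        rw [Finset.sum_comm]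
        conv_rhs => rw [Finset.sum_comm]
        refine Finset.sum_congr rfl fun v _ => ?_
        exact Finset.sum_comm
    _ = (Nat.card G : ℂ) * (((p : ℂ) - 2) * ∑ u ∈ Finset.univ.erase (1 : X),
          testFun X (pb (G := G) M) (u : G)) := by
        rw [Finset.sum_congr rfl fun w _ => pair_sum P hP hpair X hX _ (testFun_class _)
          (fun g hg => testFun_regular hpM hX hg) (fun u hu hu1 k hc hk => ?_) w, Finset.sum_const,
          Finset.card_univ, nsmul_eq_mul, ← Nat.card_eq_fintype_card]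
        exact Finset.sum_congr rfl fun χ hχ => by rw [apply_mul_eq hpM P hP hXP hX hu hu1 hc hk hχ]
    _ = _ := by
        congr 2
        simp only [testFun]
        rw [Finset.sum_comm]
        refine Finset.sum_congr rfl fun χ _ => ?_
        rw [← Finset.mul_sum, ← wt, pow_two]

/-- The block part of a column. -/
theorem column_le (hpM : (p : AlgInt) ∈ M) (P : Sylow p G) (hP : IsCyclic (P : Subgroup G))
    (hXP : X ≤ (P : Subgroup G)) (hX : Nat.card X = p) {u : X} (hu : u ≠ 1) :
    ∑ χ ∈ pb (G := G) M, Complex.normSq ((χ : G → ℂ) (u : G)) ≤ Nat.card (P : Subgroup G) := by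
  classical
  have hu1 : (u : G) ≠ 1 := fun h => hu (Subtype.ext h)
  set Kc := centralizerPPrimeCore p (u : G) with hKc
  set s : Finset G := Finset.univ.filter (· ∈ Kc) with hs
  have hscard : s.card = Nat.card Kc := by
    rw [hs, ← Fintype.card_subtype, ← Nat.card_eq_fintype_card]
  have hKC : ∀ k ∈ Kc, Commute (u : G) k ∧ ¬ p ∣ orderOf k := by
    intro k hk
    obtain ⟨y, hy, rfl⟩ := Subgroup.mem_map.1 hk
    refine ⟨(Subgroup.mem_centralizer_singleton_iff.1 y.2).symm, fun h => ?_⟩
    rw [Subgroup.coe_subtype, Subgroup.orderOf_coe] at h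
    exact Core.not_dvd_card_pPrimeCore p _ (h.trans (Subgroup.orderOf_dvd_natCard _ hy))
  have hcent := (mem_centralizerPPrimeCore P hP (hXP u.2) hu1 (Commute.one_right _)
    (by rw [orderOf_one]; exact hp.out.not_dvd_one)).2
  have huord : ∃ j : ℕ, orderOf (u : G) = p ^ j := ⟨1, by rw [pow_one, orderOf_coe_eq hX hu]⟩
  have hconj : ∀ k ∈ s, ∀ y : G, (∑ k' ∈ s, if (u : G) * k = y * ((u : G) * k') * y⁻¹ then (1 : ℂ) else 0) =
      if y ∈ Subgroup.centralizer ({(u : G)} : Set G) then 1 else 0 := by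
    intro k hk y
    have hk' := hKC k (Finset.mem_filter.1 hk).2
    split_ifs with hy
    · have hyu : y * u = u * y := Subgroup.mem_centralizer_singleton_iff.1 hy
      have hyk : y⁻¹ * k * y ∈ Kc := by
        rw [hKc, centralizerPPrimeCore, Subgroup.mem_map]
        obtain ⟨z, hz, hzk⟩ := Subgroup.mem_map.1 (Finset.mem_filter.1 hk).2
        refine ⟨(⟨y, hy⟩)⁻¹ * z * ⟨y, hy⟩, ?_, ?_⟩
        · simpa using (inferInstance : (pPrimeCore p _).Normal).conj_mem z hz
            (⟨y, hy⟩ : Subgroup.centralizer ({(u : G)} : Set G))⁻¹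
        · rw [← hzk]; rfl
      rw [Finset.sum_eq_single (y⁻¹ * k * y)]
      · rw [if_pos]
        calc (u : G) * k = (u * y) * (y⁻¹ * k * y) * y⁻¹ := by group
          _ = _ := by rw [← hyu]; group
      · intro k' _ hne
        rw [if_neg]
        intro h
        apply hne
        have h1 : (u : G) * k = (u : G) * (y * k' * y⁻¹) := by
          rw [h]
          calc y * ((u : G) * k') * y⁻¹ = (y * u) * k' * y⁻¹ := by group
            _ = _ := by rw [hyu]; group
        rw [mul_left_cancel h1]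
        group
      · intro h
        exact absurd (Finset.mem_filter.2 ⟨Finset.mem_univ _, hyk⟩) h
    · refine Finset.sum_eq_zero fun k' hk'' => ?_
      rw [if_neg]
      intro h
      apply hy
      have h2 := hKC k' (Finset.mem_filter.1 hk'').2
      have h3 : ppart p ((u : G) * k) = y * ppart p ((u : G) * k') * y⁻¹ := by rw [← ppart_conj, ← h]
      rw [ppart_mul hk'.1 huord hk'.2, ppart_mul h2.1 huord h2.2] at h3
      rw [Subgroup.mem_centralizer_singleton_iff]
      exact (eq_mul_inv_iff_mul_eq.1 h3).symm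
  have hall : ∑ χ : IrrCharacter G, (∑ k ∈ s, (χ : G → ℂ) ((u : G) * k)) *
      conj (∑ k ∈ s, (χ : G → ℂ) ((u : G) * k)) =
        (s.card : ℂ) * Nat.card (Subgroup.centralizer ({(u : G)} : Set G)) := by
    simp only [map_sum, Finset.sum_mul_sum]
    rw [Finset.sum_comm]
    rw [Finset.sum_congr rfl fun k _ => Finset.sum_comm]
    simp only [Chars2.column_orth_count]
    rw [Finset.sum_congr rfl fun k hk => by rw [Finset.sum_comm, Finset.sum_congr rfl fun y _ => hconj k hk y]]
    rw [Finset.sum_const, nsmul_eq_mul, ← Finset.sum_filter, Finset.sum_const, nsmul_eq_mul, mul_one,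
      Nat.card_eq_fintype_card, Fintype.card_subtype]
  have hle : (s.card : ℝ) ^ 2 * ∑ χ ∈ pb (G := G) M, Complex.normSq ((χ : G → ℂ) (u : G)) ≤
      (s.card : ℝ) * Nat.card (Subgroup.centralizer ({(u : G)} : Set G)) := by
    have h1 : ∑ χ : IrrCharacter G, Complex.normSq (∑ k ∈ s, (χ : G → ℂ) ((u : G) * k)) =
        (s.card : ℝ) * Nat.card (Subgroup.centralizer ({(u : G)} : Set G)) := by
      apply Complex.ofReal_injective
      push_cast
      rw [← hall]
      exact Finset.sum_congr rfl fun χ _ => (Complex.mul_conj _).symm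
    rw [← h1, Finset.mul_sum]
    refine (Finset.sum_le_sum fun χ hχ => ?_).trans
      (Finset.sum_le_sum_of_subset_of_nonneg (Finset.subset_univ _) fun χ _ _ => Complex.normSq_nonneg _)
    rw [Finset.sum_congr rfl fun k hk => apply_mul_eq hpM P hP hXP hX u.2 hu1
      (hKC k (Finset.mem_filter.1 hk).2).1 (hKC k (Finset.mem_filter.1 hk).2).2 hχ, Finset.sum_const,
      nsmul_eq_mul, Complex.normSq_mul, Complex.normSq_natCast, pow_two]
  have hs0 : (0 : ℝ) < s.card := by
    rw [hscard]; exact_mod_cast Nat.card_pos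
  rw [hcent, ← hKc, ← hscard, Nat.cast_mul] at hle
  nlinarith [hle, mul_pos hs0 hs0]

/-- The bound on the sum of squares. -/
theorem sumSq_le (hpM : (p : AlgInt) ∈ M) (P : Sylow p G) (hP : IsCyclic (P : Subgroup G))
    (hXP : X ≤ (P : Subgroup G)) (hX : Nat.card X = p) :
    (∑ χ ∈ pb (G := G) M, wt X (χ : G → ℂ) ^ 2).re ≤ ((p : ℝ) - 1) *
      ((Subgroup.centralizer ((P : Subgroup G) : Set G)).relIndex
        (Subgroup.normalizer ((P : Subgroup G) : Set G)) : ℕ) * Nat.card (P : Subgroup G) := by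
  classical
  haveI := hP
  set e := (Subgroup.centralizer ((P : Subgroup G) : Set G)).relIndex
    (Subgroup.normalizer ((P : Subgroup G) : Set G)) with he
  have hsq : ∑ χ ∈ pb (G := G) M, wt X (χ : G → ℂ) ^ 2 =
      ∑ u ∈ Finset.univ.erase (1 : X), ∑ v ∈ Finset.univ.erase (1 : X),
        ∑ χ ∈ pb (G := G) M, (χ : G → ℂ) (u : G) * conj ((χ : G → ℂ) (v : G)) := by
    rw [Finset.sum_congr rfl fun (χ : IrrCharacter G) _ => show wt X (χ : G → ℂ) ^ 2 =
      ∑ u ∈ Finset.univ.erase (1 : X), ∑ v ∈ Finset.univ.erase (1 : X),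
        (χ : G → ℂ) (u : G) * conj ((χ : G → ℂ) (v : G)) by
          rw [← Finset.sum_mul_sum, ← map_sum, ← wt, conj_wt hX, pow_two], Finset.sum_comm]
    exact Finset.sum_congr rfl fun u _ => Finset.sum_comm
  have hppart : ∀ u : X, u ≠ 1 → ppart p (u : G) = u := fun u hu => by
    have := ppart_mul (p := p) (Commute.one_right (u : G)) ⟨1, by rw [pow_one, orderOf_coe_eq hX hu]⟩
      (by rw [orderOf_one]; exact hp.out.not_dvd_one)
    rwa [mul_one] at this
  have hrow : ∀ u ∈ Finset.univ.erase (1 : X),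
      (∑ v ∈ Finset.univ.erase (1 : X),
        ∑ χ ∈ pb (G := G) M, (χ : G → ℂ) (u : G) * conj ((χ : G → ℂ) (v : G))).re ≤
          (e : ℝ) * Nat.card (P : Subgroup G) := by
    intro u hu
    have hu1 := (Finset.mem_erase.1 hu).1
    set S := (Finset.univ.erase (1 : X)).filter fun v : X => IsConj (u : G) (v : G) with hS
    have hval : ∀ v ∈ Finset.univ.erase (1 : X),
        ∑ χ ∈ pb (G := G) M, (χ : G → ℂ) (u : G) * conj ((χ : G → ℂ) (v : G)) =
          if IsConj (u : G) (v : G) then ((∑ χ ∈ pb (G := G) M, Complex.normSq ((χ : G → ℂ) (u : G)) : ℝ) : ℂ)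
          else 0 := by
      intro v hv
      split_ifs with h
      · rw [Complex.ofReal_sum]
        refine Finset.sum_congr rfl fun χ _ => ?_
        obtain ⟨c, hc⟩ := isConj_iff.1 h
        rw [← hc, Chars.isClassFunction_irr χ (u : G) c, Complex.mul_conj]
      · refine block_orth hpM isPBlock_principal ?_
        rwa [hppart u hu1, hppart v (Finset.mem_erase.1 hv).1]
    rw [Finset.sum_congr rfl hval, ← Finset.sum_filter, Finset.sum_const, nsmul_eq_mul,
      ← hS, ← Complex.ofReal_natCast, ← Complex.ofReal_mul, Complex.ofReal_re]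
    refine mul_le_mul ?_ (column_le hpM P hP hXP hX hu1)
      (Finset.sum_nonneg fun χ _ => Complex.normSq_nonneg _) (Nat.cast_nonneg _)
    rw [Nat.cast_le, he, Subgroup.relIndex, Subgroup.index_eq_card, ← Fintype.card_coe,
      ← Nat.card_eq_fintype_card]
    have hex : ∀ v : S, ∃ n : Subgroup.normalizer ((P : Subgroup G) : Set G),
        (n : G)⁻¹ * (u : G) * n = ((v : X) : G) := by
      rintro ⟨v, hv⟩
      obtain ⟨c, hc⟩ := isConj_iff.1 (Finset.mem_filter.1 hv).2
      obtain ⟨n, hn, hn'⟩ := Sylow.conj_eq_normalizer_conj_of_mem P (u : G) c⁻¹ (hXP u.2)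
        (by rw [inv_inv, hc]; exact hXP v.2)
      refine ⟨⟨n, hn⟩, ?_⟩
      rw [← hn', inv_inv, hc]
    choose n hn using hex
    refine Nat.card_le_card_of_injective (fun v => QuotientGroup.mk ((n v)⁻¹)) fun v w h => ?_
    have h' := (QuotientGroup.eq.1 h)
    rw [inv_inv, Subgroup.mem_subgroupOf, Subgroup.coe_mul, InvMemClass.coe_inv] at h'
    have hcu := Subgroup.mem_centralizer_iff.1 h' (u : G) (hXP u.2)
    apply Subtype.ext
    apply Subtype.ext
    rw [← hn v, ← hn w]
    calc (n v : G)⁻¹ * u * n v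
        = (n v : G)⁻¹ * (u * ((n v : G) * (n w : G)⁻¹)) * n w := by group
      _ = (n v : G)⁻¹ * ((n v : G) * (n w : G)⁻¹ * u) * n w := by rw [hcu]
      _ = _ := by group
  rw [hsq, Complex.re_sum]
  refine (Finset.sum_le_sum hrow).trans ?_
  rw [Finset.sum_const, Finset.card_erase_of_mem (Finset.mem_univ _), Finset.card_univ,
    ← Nat.card_eq_fintype_card, hX, nsmul_eq_mul, Nat.cast_sub hp.out.one_le, Nat.cast_one]
  exact le_of_eq (mul_assoc _ _ _).symm

end Cfsg.Agent.FGS4.CyclicPairs
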