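import Mathlib
import Cfsg.Agent.FGS4.CyclicPairs.Arith
import Cfsg.Agent.FGS4.CyclicPairs.Sigma
import Cfsg.Agent.Blocks.CyclicLocal
import Cfsg.Agent.BlockChar.Principal
import Cfsg.Agent.Blocks.Height
import Cfsg.Agent.Chars.SimpleDegreeTools
import Cfsg.Agent.Chars.Transport
import Cfsg.Agent.FGS4.Kazarin

/-!
A group with cyclic Sylow `p`-subgroups in which any two elements of order `p` generate a
`p`-solvable subgroup is `p`-solvable.
-/

set_option autoImplicit false
set_option linter.style.haveILetI false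
set_option linter.unusedSectionVars false

namespace Cfsg.Agent.FGS4.CyclicPairs

open Cfsg Cfsg.Agent Cfsg.Agent.Blocks Cfsg.Agent.BlockChar
open scoped ComplexConjugate

universe u

variable {p : ℕ} [hp : Fact p.Prime]

/-- An automorphism of a cyclic `p`-subgroup fixing an element of order `p` fixes all. -/
theorem centralizes {G : Type*} [Group G] [Finite G] (P : Sylow p G) (hP : IsCyclic (P : Subgroup G))
    {n u : G} (hn : n ∈ Subgroup.normalizer ((P : Subgroup G) : Set G)) (hu : u ∈ (P : Subgroup G))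
    (hu1 : u ≠ 1) (hnu : n * u * n⁻¹ = u) : n ∈ Subgroup.centralizer ((P : Subgroup G) : Set G) := by
  haveI := hP
  haveI := Fintype.ofFinite G
  letI : CommGroup (P : Subgroup G) := IsCyclic.commGroup
  obtain ⟨l, hnl, -, ⟨j, hj⟩, hl⟩ := Blocks.isPPart_ppart (p := p) n
  set z := Blocks.ppart p n with hz
  have hzN : z ∈ Subgroup.normalizer ((P : Subgroup G) : Set G) := by
    rw [hz, Blocks.ppart]; exact pow_mem hn _
  have hzP : z ∈ (P : Subgroup G) := FGS2.CyclicSylow.mem_P_of_normalizer hzN ⟨j, hj⟩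
  have hzc : ∀ y ∈ (P : Subgroup G), z * y * z⁻¹ = y := fun y hy => by
    rw [show z * y = y * z from congrArg (fun t : (P : Subgroup G) => (t : G))
      (mul_comm (⟨z, hzP⟩ : (P : Subgroup G)) ⟨y, hy⟩), mul_inv_cancel_right]
  have hlN : l ∈ Subgroup.normalizer ((P : Subgroup G) : Set G) := by
    rw [show l = z⁻¹ * n by rw [← hnl]; group]
    exact mul_mem (inv_mem hzN) hn
  have hlu : l * u * l⁻¹ = u := by
    have h1 : z * (l * u * l⁻¹) * z⁻¹ = u := by
      calc z * (l * u * l⁻¹) * z⁻¹ = n * u * n⁻¹ := by rw [← hnl]; group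
        _ = u := hnu
    rwa [hzc _ ((Subgroup.mem_normalizer_iff.1 hlN u).1 hu)] at h1
  rcases FGS2.CyclicSylow.coprime_dichotomy P.isPGroup' hP hl hlN with h | h
  · rw [Subgroup.mem_centralizer_iff]
    intro y hy
    have h2 : n * y * n⁻¹ = y := by
      rw [← hnl]
      calc z * l * y * (z * l)⁻¹ = z * (l * y * l⁻¹) * z⁻¹ := by group
        _ = y := by rw [h y hy, hzc y hy]
    exact (mul_inv_eq_iff_eq_mul.1 h2).symm
  · exact absurd (h.1 u hu hlu) hu1

variable {G : Type u} [Group G] [Fintype G]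

/-- A nontrivial character of degree equal to the inertial index has weight minus that index. -/
theorem wt_eq_neg [IsSimpleGroup G] (P : Sylow p G) (hP : IsCyclic (P : Subgroup G)) (X : Subgroup G)
    [Fintype X] [DecidableEq X] (hXP : X ≤ (P : Subgroup G)) (hX : Nat.card X = p) {ψ : IrrCharacter G}
    (hψ : (ψ : G → ℂ) 1 = ((Subgroup.centralizer ((P : Subgroup G) : Set G)).relIndex
        (Subgroup.normalizer ((P : Subgroup G) : Set G)) : ℕ))
    (hne : (ψ : G → ℂ) 1 ≠ 1) :
    wt X (ψ : G → ℂ) = -(((Subgroup.centralizer ((P : Subgroup G) : Set G)).relIndex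
        (Subgroup.normalizer ((P : Subgroup G) : Set G)) : ℕ) : ℂ) := by
  classical
  set N := Subgroup.normalizer ((P : Subgroup G) : Set G) with hN
  set C := Subgroup.centralizer ((P : Subgroup G) : Set G) with hC
  set e := C.relIndex N with he
  haveI := hP
  letI : Fintype (P : Subgroup G) := Fintype.ofFinite _
  letI : CommGroup (P : Subgroup G) := IsCyclic.commGroup
  set f : ↥(P : Subgroup G) → ℂ := fun x => (ψ : G → ℂ) x with hf
  have hfc : IsCharacter (P : Subgroup G) f :=
    Chars.isCharacter_restrict (Chars.irr_isCharacter ψ) (P : Subgroup G)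
  obtain ⟨c, hc⟩ := Chars2.exists_multiplicities hfc
  have hdec : ∀ x, f x = ∑ φ : IrrCharacter (P : Subgroup G), (c φ : ℂ) * (φ : ↥(P : Subgroup G) → ℂ) x :=
    fun x => by
      rw [Chars2.apply_eq_sum (Chars.isClassFunction_of_isCharacter hfc) x]
      simp only [hc]
  have hlin : ∀ φ : IrrCharacter (P : Subgroup G), (φ : ↥(P : Subgroup G) → ℂ) 1 = 1 := fun φ =>
    Chars.irr_apply_one_of_comm (fun a b => mul_comm a b) φ.2
  have htot : ∑ φ : IrrCharacter (P : Subgroup G), c φ = e := by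
    have h1 := hdec 1
    simp only [hlin, mul_one, hf, OneMemClass.coe_one, hψ] at h1
    exact_mod_cast h1.symm
  haveI : Nontrivial X := Finite.one_lt_card_iff_nontrivial.1 (hX ▸ hp.out.one_lt)
  obtain ⟨u0, hu0⟩ := exists_ne (1 : X)
  -- a constituent that is non-trivial on `X`
  obtain ⟨φ0, hc0, hφ0⟩ : ∃ φ : IrrCharacter (P : Subgroup G), 0 < c φ ∧
      (φ : ↥(P : Subgroup G) → ℂ) ⟨u0, hXP u0.2⟩ ≠ 1 := by
    by_contra hno
    push Not at hno
    have h1 : (ψ : G → ℂ) (u0 : G) = (ψ : G → ℂ) 1 := by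
      have h2 := hdec ⟨u0, hXP u0.2⟩
      have h3 := hdec 1
      simp only [hf, OneMemClass.coe_one] at h2 h3
      rw [h2, h3]
      refine Finset.sum_congr rfl fun φ _ => ?_
      rcases Nat.eq_zero_or_pos (c φ) with h | h
      · simp [h]
      · rw [hno φ h, hlin φ]
    exact hu0 (Subtype.ext (Chars.SimpleDeg.eq_one_of_apply_eq hne h1))
  obtain ⟨hom, hhom⟩ := Chars.exists_hom_of_degree_one (Chars.irr_isCharacter φ0) (hlin φ0)
  have hhinj : Function.Injective hom := by
    rw [← MonoidHom.ker_eq_bot_iff]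
    by_contra hker
    haveI : Nontrivial hom.ker := (Subgroup.nontrivial_iff_ne_bot _).2 hker
    obtain ⟨z, hz⟩ := exists_prime_orderOf_dvd_card' (G := hom.ker) p
      ((P.isPGroup'.to_subgroup hom.ker).card_eq_or_dvd.resolve_left Finite.one_lt_card.ne')
    have hzX : Subgroup.zpowers ((z : (P : Subgroup G)) : G) = X :=
      OddLocal.eq_of_card_eq_of_isCyclic hP (Subgroup.zpowers_le.2 (z : (P : Subgroup G)).2) hXP
        (by rw [Nat.card_zpowers, Subgroup.orderOf_coe, Subgroup.orderOf_coe, hz, hX])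
    have hu0z : (u0 : G) ∈ Subgroup.zpowers ((z : (P : Subgroup G)) : G) := by rw [hzX]; exact u0.2
    obtain ⟨i, hi⟩ := Subgroup.mem_zpowers_iff.1 hu0z
    have h1 : (⟨u0, hXP u0.2⟩ : (P : Subgroup G)) ∈ hom.ker := by
      have : (⟨u0, hXP u0.2⟩ : (P : Subgroup G)) = (z : (P : Subgroup G)) ^ i :=
        Subtype.ext (by rw [Subgroup.coe_zpow]; exact hi.symm)
      rw [this]
      exact Subgroup.zpow_mem _ z.2 i
    apply hφ0
    simp only [hhom]
    rw [MonoidHom.mem_ker.1 h1, Units.val_one]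
  -- the orbit
  let act : N → MulAut (P : Subgroup G) := fun n => (P : Subgroup G).normalizerMonoidHom n
  let orb : N → IrrCharacter (P : Subgroup G) := fun n => Chars.irrEquiv (act n) φ0
  have hcorb : ∀ n : N, c (orb n) = c φ0 := by
    intro n
    have h1 : classInner f (orb n : ↥(P : Subgroup G) → ℂ) = classInner f (φ0 : ↥(P : Subgroup G) → ℂ) := by
      rw [Chars.classInner_def, Chars.classInner_def]
      congr 1
      refine Fintype.sum_equiv (act n).toEquiv _ _ fun x => ?_
      show f x * conj ((φ0 : ↥(P : Subgroup G) → ℂ) (act n x)) = f (act n x) * conj ((φ0 : ↥(P : Subgroup G) → ℂ) (act n x))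
      congr 1
      exact (Chars.isClassFunction_irr ψ (x : G) (n : G)).symm
    rw [hc, hc] at h1
    exact_mod_cast h1
  have horbq : ∀ n n' : N, orb n = orb n' → (n : G)⁻¹ * n' ∈ C := by
    intro n n' h
    have h1 : ∀ x : (P : Subgroup G), act n x = act n' x := by
      intro x
      apply hhinj
      have h2 := congrFun (congrArg Subtype.val h) x
      simp only [orb, Chars.irrEquiv_apply, hhom] at h2
      exact Units.ext h2
    rw [Subgroup.mem_centralizer_iff]
    intro y hy
    have h3 : (n : G) * y * (n : G)⁻¹ = (n' : G) * y * (n' : G)⁻¹ := congrArg Subtype.val (h1 ⟨y, hy⟩)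
    calc y * ((n : G)⁻¹ * n') = (n : G)⁻¹ * ((n : G) * y * (n : G)⁻¹) * n' := by group
      _ = (n : G)⁻¹ * ((n' : G) * y * (n' : G)⁻¹) * n' := by rw [h3]
      _ = _ := by group
  have hsize : e ≤ (Finset.univ.image orb).card := by
    rw [he, Subgroup.relIndex, Subgroup.index_eq_card, ← Fintype.card_coe, ← Nat.card_eq_fintype_card]
    refine Nat.card_le_card_of_injective
      (fun q : N ⧸ C.subgroupOf N => (⟨orb q.out, Finset.mem_image_of_mem _ (Finset.mem_univ _)⟩ :
        {x // x ∈ Finset.univ.image orb})) fun q q' h => ?_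
    have h1 := horbq _ _ (congrArg Subtype.val h)
    rw [← q.out_eq, ← q'.out_eq]
    exact QuotientGroup.eq.2 (by simpa [Subgroup.mem_subgroupOf] using h1)
  have hone : ∀ φ, φ ∉ Finset.univ.image orb → c φ = 0 := by
    intro φ hφ
    have h1 : ∑ ξ ∈ insert φ (Finset.univ.image orb), c ξ ≤ ∑ ξ, c ξ :=
      Finset.sum_le_sum_of_subset (Finset.subset_univ _)
    rw [Finset.sum_insert hφ, htot] at h1
    have h2 : (Finset.univ.image orb).card ≤ ∑ ξ ∈ Finset.univ.image orb, c ξ := by
      rw [Finset.card_eq_sum_ones]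
      refine Finset.sum_le_sum fun ξ hξ => ?_
      obtain ⟨n, -, rfl⟩ := Finset.mem_image.1 hξ
      rw [hcorb]; exact hc0
    omega
  -- each constituent is non-trivial on `X`
  have hw : ∀ φ : IrrCharacter (P : Subgroup G), 0 < c φ →
      ∑ u ∈ Finset.univ.erase (1 : X), (φ : ↥(P : Subgroup G) → ℂ) ⟨u, hXP u.2⟩ = -1 := by
    intro φ hφ
    obtain ⟨n, -, rfl⟩ := Finset.mem_image.1 (by_contra fun h => hφ.ne' (hone φ h))
    set μ : X →* ℂˣ := hom.comp ((act n).toMonoidHom.comp (Subgroup.inclusion hXP)) with hμ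
    have hμ1 : μ ≠ 1 := by
      intro h
      have h1 := DFunLike.congr_fun h u0
      rw [MonoidHom.one_apply, hμ] at h1
      have h2 : act n (Subgroup.inclusion hXP u0) = 1 := hhinj (h1.trans (map_one hom).symm)
      rw [MulEquiv.map_eq_one_iff] at h2
      exact hu0 (Subgroup.inclusion_injective hXP (h2.trans (map_one _).symm))
    have hs : ∑ u : X, ((μ u : ℂˣ) : ℂ) = 0 := by
      obtain ⟨v, hv⟩ : ∃ v, μ v ≠ 1 := by
        by_contra hno
        push Not at hno
        exact hμ1 (MonoidHom.ext hno)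
      have h1 : ((μ v : ℂˣ) : ℂ) * ∑ u : X, ((μ u : ℂˣ) : ℂ) = ∑ u : X, ((μ u : ℂˣ) : ℂ) := by
        rw [Finset.mul_sum]
        exact Fintype.sum_equiv (Equiv.mulLeft v) _ _ fun u => by simp
      have hv' : ((μ v : ℂˣ) : ℂ) ≠ 1 := fun h => hv (Units.ext h)
      exact (mul_eq_zero.1 (show (((μ v : ℂˣ) : ℂ) - 1) * _ = 0 by
        rw [sub_mul, one_mul, h1, sub_self])).resolve_left (sub_ne_zero.2 hv')
    rw [Finset.sum_congr rfl (g := fun u => ((μ u : ℂˣ) : ℂ)) fun u _ => by
      simp only [orb, Chars.irrEquiv_apply, hhom]; rfl,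
      Finset.sum_erase_eq_sub (Finset.mem_univ _), hs, map_one, Units.val_one, zero_sub]
  rw [wt, Finset.sum_congr rfl (g := fun u : X =>
    ∑ φ : IrrCharacter (P : Subgroup G), (c φ : ℂ) * (φ : ↥(P : Subgroup G) → ℂ) ⟨u, hXP u.2⟩)
    fun u _ => hdec ⟨u, hXP u.2⟩, Finset.sum_comm]
  rw [← htot, Nat.cast_sum, ← Finset.sum_neg_distrib]
  refine Finset.sum_congr rfl fun φ _ => ?_
  rw [← Finset.mul_sum]
  rcases Nat.eq_zero_or_pos (c φ) with h | h
  · simp [h]
  · rw [hw φ h]; ring

set_option maxHeartbeats 1000000 in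
/-- The simple case. -/
theorem simple_false [IsSimpleGroup G] (hna : ¬ ∀ a b : G, a * b = b * a) (hdvd : p ∣ Nat.card G)
    (P : Sylow p G) (hP : IsCyclic (P : Subgroup G))
    (hpair : ∀ x y : G, orderOf x = p → orderOf y = p →
      IsPSolvable p ↥(Subgroup.closure ({x, y} : Set G))) : False := by
  classical
  have hPne : (P : Subgroup G) ≠ ⊥ := P.ne_bot_of_dvd_card hdvd
  obtain ⟨a, ha⟩ := IsPGroup.iff_card.1 P.isPGroup'
  have ha1 : 1 ≤ a := by
    by_contra h
    rw [show a = 0 by omega, pow_zero, Subgroup.card_eq_one] at ha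
    exact hPne ha
  haveI : Nontrivial (P : Subgroup G) := (Subgroup.nontrivial_iff_ne_bot _).2 hPne
  obtain ⟨x0, hx0⟩ := exists_prime_orderOf_dvd_card' (G := (P : Subgroup G)) p
    (ha ▸ dvd_pow_self p (by omega))
  set X : Subgroup G := Subgroup.zpowers (x0 : G) with hXdef
  have hXP : X ≤ (P : Subgroup G) := Subgroup.zpowers_le.2 x0.2
  have hX : Nat.card X = p := by rw [hXdef, Nat.card_zpowers, Subgroup.orderOf_coe, hx0]
  set N := Subgroup.normalizer ((P : Subgroup G) : Set G) with hN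
  set C := Subgroup.centralizer ((P : Subgroup G) : Set G) with hC
  set e := C.relIndex N with he
  -- the inertial index is not one
  have he2 : 2 ≤ e := by
    have h0 : e ≠ 0 := Subgroup.index_ne_zero_of_finite
    by_contra h
    have h1 : e = 1 := by omega
    obtain ⟨P', K, hK, hKc⟩ := Transfer.hasNormalPComplement_of_normalizer_le_centralizer P
      (Subgroup.relIndex_eq_one.1 h1)
    have hmul := hKc.card_mul
    rcases hK.eq_bot_or_eq_top with hb | hb
    · rw [hb, Subgroup.card_bot, one_mul] at hmul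
      have htop := Subgroup.eq_top_of_card_eq _ hmul
      refine hna fun a b => ?_
      haveI := sylow_cyclic P hP P'
      letI : CommGroup (P' : Subgroup G) := IsCyclic.commGroup
      exact congrArg (fun t : (P' : Subgroup G) => (t : G))
        (mul_comm (⟨a, htop ▸ Subgroup.mem_top a⟩ : (P' : Subgroup G)) ⟨b, htop ▸ Subgroup.mem_top b⟩)
    · rw [hb, Subgroup.card_top] at hmul
      exact P'.ne_bot_of_dvd_card hdvd
        (Subgroup.card_eq_one.1 (Nat.eq_of_mul_eq_mul_left Nat.card_pos (hmul.trans (mul_one _).symm)))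
  -- the principal block
  obtain ⟨M, hMmax, hpM⟩ := FGS4.Kazarin.exists_maximal_mem p hp.out
  haveI := hMmax
  letI : Fintype C := Fintype.ofFinite _
  have hPC : (P : Subgroup G) ≤ C := by
    haveI := hP
    letI : CommGroup (P : Subgroup G) := IsCyclic.commGroup
    exact fun x hx => Subgroup.mem_centralizer_iff.2 fun y hy =>
      congrArg (fun t : (P : Subgroup G) => (t : G)) (mul_comm (⟨y, hy⟩ : (P : Subgroup G)) ⟨x, hx⟩)
  have hdef : InducedBlockDefined M C (principalBlock M C) :=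
    inducedBlockDefined_of_brauer C hpM P.isPGroup' hPC le_rfl
      (Subgroup.centralizer_le_normalizer _) isPBlock_principal
  have hind : IsInducedBlock M C (principalBlock M C) (principalBlock M G) :=
    (Blocks.third_main C hpM hdef).2 rfl
  have hPD : IsDefectGroup p M (principalBlock M G) (P : Subgroup G) :=
    (isDefectGroup_principal_iff hpM _).2 ⟨P, rfl⟩
  have hstab : stab (P : Subgroup G) (idemS M (principalBlock M C)) = N := by
    ext g
    rw [mem_stab]
    refine ⟨fun h => h.1, fun h => ⟨h, ?_⟩⟩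
    exact ((stabilizesBlock_iff hpM isPBlock_principal g).1
      (stabilizesBlock_principal hpM (normalizer_le_normalizer_centralizer _ h))).2
  obtain ⟨hrank, hedvd, -, Xs, Ys, hun, hdis, hXc, hYc, hYeq, δ, δ₀, hδ, hδ₀, hrel, hcX, hcY⟩ :=
    CyclicStructure.cyclic_structure hpM hPD hP hPne ha hind
      (CyclicLocal.low_bound hpM hPD hP hPne hind)
  rw [hstab, ← hC, ← he] at hrank hedvd hXc hYc hcY
  have hp3 : 3 ≤ p := by
    have h2 := hp.out.two_le
    by_contra h
    have hle := Nat.le_of_dvd (by omega) hedvd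
    omega
  set Bf : Finset (IrrCharacter G) := pb (G := G) M with hBf
  set Xf : Finset (IrrCharacter G) := Finset.univ.filter (· ∈ Xs) with hXf
  set Yf : Finset (IrrCharacter G) := Finset.univ.filter (· ∈ Ys) with hYf
  have hmemB : ∀ χ, χ ∈ Bf ↔ χ ∈ Xs ∨ χ ∈ Ys := fun χ => by
    simp only [hBf, pb, Finset.mem_filter, Finset.mem_univ, true_and, hun, Set.mem_union]
  have hXfc : Xf.card = e := by
    rw [← hXc, Nat.card_eq_fintype_card, Fintype.card_subtype]
  have hYfc : Yf.card = (p ^ a - 1) / e := by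
    rw [← hYc, Nat.card_eq_fintype_card, Fintype.card_subtype]
  have hedvd' : e ∣ p ^ a - 1 := hedvd.trans (by simpa using Nat.sub_dvd_pow_sub_pow p 1 a)
  have hYcard : Yf.card * e = p ^ a - 1 := by rw [hYfc, Nat.div_mul_cancel hedvd']
  obtain ⟨ψ₀, hψ₀⟩ : Yf.Nonempty := by
    rw [← Finset.card_pos]
    rcases Nat.eq_zero_or_pos Yf.card with h | h
    · rw [h, zero_mul] at hYcard
      have : p ≤ p ^ a := Nat.le_self_pow (by omega) p
      omega
    · exact h
  have hψ₀Y : ψ₀ ∈ Ys := (Finset.mem_filter.1 hψ₀).2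
  -- the weights
  choose s hs hsmod using fun χ : IrrCharacter G => exists_wt_int (X := X) hX χ
  set d : IrrCharacter G → ℕ := fun χ => charDegree (χ : G → ℂ) with hd
  have hdc : ∀ χ : IrrCharacter G, ((d χ : ℕ) : ℂ) = (χ : G → ℂ) 1 := fun χ =>
    BlockChar.charDegree_cast (Chars.irr_isCharacter χ)
  set S : ℤ := ∑ χ ∈ Yf, s χ with hS
  -- the regular columns
  have hrel' : ∀ g : G, ¬ p ∣ orderOf g → (ψ₀ : G → ℂ) g =
      -(δ₀ : ℂ) * ∑ χ ∈ Xf, (δ χ : ℂ) * (χ : G → ℂ) g := by
    intro g hg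
    have h := hrel ψ₀ hψ₀Y g hg
    rw [Blocks.finsum_mem_eq_filter, ← hXf] at h
    have h2 : (δ₀ : ℂ) * (δ₀ : ℂ) = 1 := by
      rcases hδ₀ with h0 | h0 <;> rw [h0] <;> norm_num
    linear_combination (δ₀ : ℂ) * h - (ψ₀ : G → ℂ) g * h2
  have hli : LinearIndependent ℂ (fun χ : Xf => pRegularPart p ((χ : IrrCharacter G) : G → ℂ)) := by
    rw [linearIndependent_iff_card_eq_finrank_span, Fintype.card_coe, hXfc, Set.finrank, ← hrank]
    unfold blockRank
    have hspan : Submodule.span ℂ ((fun χ : IrrCharacter G => pRegularPart p (χ : G → ℂ)) '' principalBlock M G) =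
        Submodule.span ℂ (Set.range fun χ : Xf => pRegularPart p ((χ : IrrCharacter G) : G → ℂ)) := by
      refine le_antisymm (Submodule.span_le.2 ?_) (Submodule.span_mono ?_)
      · rintro _ ⟨χ, hχ, rfl⟩
        rw [hun] at hχ
        rcases hχ with hχ | hχ
        · exact Submodule.subset_span ⟨⟨χ, Finset.mem_filter.2 ⟨Finset.mem_univ _, hχ⟩⟩, rfl⟩
        · show pRegularPart p (χ : G → ℂ) ∈ _
          have heq : pRegularPart p (χ : G → ℂ) =
              ∑ η ∈ Xf, (-(δ₀ : ℂ) * δ η) • pRegularPart p (η : G → ℂ) := by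
            funext g
            rw [Finset.sum_apply]
            by_cases hg : p ∣ orderOf g
            · have h0 : ∀ F : G → ℂ, pRegularPart p F g = 0 := fun F => by
                rw [pRegularPart, if_neg]; exact fun h => h hg
              simp only [Pi.smul_apply, h0, smul_zero, Finset.sum_const_zero]
            · have h0 : ∀ F : G → ℂ, pRegularPart p F g = F g := fun F => by
                rw [pRegularPart, if_pos]; exact hg
              simp only [Pi.smul_apply, h0, smul_eq_mul]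
              rw [hYeq χ hχ ψ₀ hψ₀Y g hg, hrel' g hg, Finset.mul_sum]
              exact Finset.sum_congr rfl fun η _ => (mul_assoc _ _ _).symm
          rw [heq]
          exact Submodule.sum_mem _ fun η hη =>
            Submodule.smul_mem _ _ (Submodule.subset_span ⟨⟨η, hη⟩, rfl⟩)
      · rintro _ ⟨χ, rfl⟩
        exact ⟨χ.1, by rw [hun]; exact Or.inl (Finset.mem_filter.1 χ.2).2, rfl⟩
    rw [hspan]
  have hkill : ∀ g : G, ¬ p ∣ orderOf g →
      ∑ χ ∈ Xf, ((s χ : ℂ) - (δ₀ : ℂ) * S * δ χ) * (χ : G → ℂ) g = 0 := by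
    intro g hg
    have h := testFun_regular (X := X) hpM hX hg
    rw [testFun, ← hBf, show Bf = Xf ∪ Yf by
      ext χ; simp [hmemB, hXf, hYf], Finset.sum_union (by
        rw [Finset.disjoint_left]
        intro χ h1 h2
        exact Set.disjoint_left.1 hdis (Finset.mem_filter.1 h1).2 (Finset.mem_filter.1 h2).2)] at h
    simp only [hs] at h
    rw [Finset.sum_congr rfl (s₁ := Yf) fun χ hχ => by
      rw [hYeq χ (Finset.mem_filter.1 hχ).2 ψ₀ hψ₀Y g hg, hrel' g hg], ← Finset.sum_mul] at h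
    rw [← Int.cast_sum, ← hS] at h
    rw [← h, Finset.mul_sum, Finset.mul_sum, ← Finset.sum_add_distrib]
    exact Finset.sum_congr rfl fun χ _ => by ring
  have hsX : ∀ χ ∈ Xf, s χ = δ₀ * S * δ χ := by
    intro χ hχ
    have h := Fintype.linearIndependent_iff.1 hli
      (fun χ : Xf => (s χ : ℂ) - (δ₀ : ℂ) * S * δ χ) ?_ ⟨χ, hχ⟩
    · exact_mod_cast (sub_eq_zero.1 h)
    funext g
    rw [Finset.sum_apply, Pi.zero_apply]
    by_cases hg : p ∣ orderOf g
    · refine Finset.sum_eq_zero fun χ _ => ?_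
      rw [Pi.smul_apply, pRegularPart, if_neg, smul_zero]
      exact fun h => h hg
    · rw [← hkill g hg, ← Finset.sum_coe_sort Xf]
      refine Finset.sum_congr rfl fun χ _ => ?_
      rw [Pi.smul_apply, pRegularPart, if_pos, smul_eq_mul]
      exact hg
  -- the trivial character
  set o : IrrCharacter G := oneChar G with ho
  have hoB : o ∈ Bf := Finset.mem_filter.2 ⟨Finset.mem_univ _, one_mem_principal⟩
  have hso : s o = (p : ℤ) - 1 := by
    have h := hs o
    rw [ho, coe_oneChar, wt_one hX] at h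
    exact_mod_cast h.symm
  have hdo : d o = 1 := by
    have := hdc o
    rw [show (o : G → ℂ) 1 = ((1 : ℕ) : ℂ) by rw [ho, coe_oneChar, Nat.cast_one]] at this
    exact Nat.cast_injective this
  have hdeg : ∀ χ : IrrCharacter G, χ ≠ o → 2 ≤ d χ := by
    intro χ hχ
    have h0 : d χ ≠ 0 := fun h => Chars.irr_apply_one_ne_zero χ.2 (by rw [← hdc χ, h, Nat.cast_zero])
    by_contra hlt
    refine hχ (Subtype.ext ?_)
    rw [ho, coe_oneChar]
    exact Chars.SimpleDeg.eq_one_of_degree_one hna (by rw [← hdc χ, show d χ = 1 by omega, Nat.cast_one])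
  have hYd : ∀ χ ∈ Ys, d χ = d ψ₀ := by
    intro χ hχ
    have := hYeq χ hχ ψ₀ hψ₀Y 1 (by rw [orderOf_one]; exact hp.out.not_dvd_one)
    rw [← hdc, ← hdc] at this
    exact_mod_cast this
  have hYone : o ∈ Ys → Yf = {o} := by
    intro hoY
    refine Finset.eq_singleton_iff_unique_mem.2 ⟨Finset.mem_filter.2 ⟨Finset.mem_univ _, hoY⟩,
      fun χ hχ => ?_⟩
    by_contra hne
    have h1 := hdeg χ hne
    rw [hYd χ (Finset.mem_filter.1 hχ).2, ← hYd o hoY, hdo] at h1
    omega
  have hδa : ∀ χ ∈ Xf, |δ χ| = 1 := fun χ hχ => by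
    rcases hδ χ (Finset.mem_filter.1 hχ).2 with h | h <;> simp [h]
  have hδ0a : |δ₀| = 1 := by rcases hδ₀ with h | h <;> simp [h]
  have hSabs : |S| = (p : ℤ) - 1 := by
    rcases (hmemB o).1 hoB with h | h
    · have h1 := congrArg abs (hsX o (Finset.mem_filter.2 ⟨Finset.mem_univ _, h⟩))
      rw [abs_mul, abs_mul, hδ0a, hδa o (Finset.mem_filter.2 ⟨Finset.mem_univ _, h⟩), one_mul, mul_one,
        hso, abs_of_nonneg (by omega : (0 : ℤ) ≤ (p : ℤ) - 1)] at h1
      exact h1.symm
    · rw [hS, hYone h, Finset.sum_singleton, hso, abs_of_nonneg (by omega : (0 : ℤ) ≤ (p : ℤ) - 1)]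
  have habsX : ∀ χ ∈ Xf, |s χ| = (p : ℤ) - 1 := fun χ hχ => by
    rw [hsX χ hχ, abs_mul, abs_mul, hδ0a, hδa χ hχ, one_mul, mul_one, hSabs]
  have hsum : (∑ χ ∈ Bf, (s χ : ℝ) ^ 2) ≤ ((p : ℝ) - 1) * e * (p : ℝ) ^ a := by
    have h := sumSq_le (X := X) hpM P hP hXP hX
    rw [← hBf, ha, Nat.cast_pow, ← hC, ← hN, ← he] at h
    rw [Finset.sum_congr rfl fun χ _ => by rw [hs χ, ← Int.cast_pow], ← Int.cast_sum,
      Complex.intCast_re] at h
    push_cast at h
    exact h
  have hident : (∑ χ ∈ Bf, (s χ : ℝ) ^ 3 / d χ) = ((p : ℝ) - 2) * ∑ χ ∈ Bf, (s χ : ℝ) ^ 2 := by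
    apply Complex.ofReal_injective
    push_cast
    have h := ident (X := X) hpM P hP hpair hXP hX
    simp only [hs, ← hdc] at h
    exact h
  have hzero : ∑ χ ∈ Bf, s χ * (d χ : ℤ) = 0 := by
    have h := testFun_regular (X := X) (g := (1 : G)) hpM hX (by rw [orderOf_one]; exact hp.out.not_dvd_one)
    rw [testFun, ← hBf] at h
    simp only [hs, ← hdc] at h
    exact_mod_cast h
  refine Num.false (p := p) (a := a) (e := e) (B := Bf) (o := o) (X := Xf) (Y := Yf) (s := s) (d := d)
    ⟨hp3, ha1, he2, hedvd, ?_, ?_, hXfc, hYcard, hoB, hso, hdo, fun χ _ h => hdeg χ h, habsX, hSabs,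
      hsum, hident, hzero, fun ha2 => ?_⟩ ?_
  · ext χ; simp [hmemB, hXf, hYf]
  · rw [Finset.disjoint_left]
    intro χ h1 h2
    exact Set.disjoint_left.1 hdis (Finset.mem_filter.1 h1).2 (Finset.mem_filter.1 h2).2
  · -- large `a`
    have hp2 : p < p ^ a := by
      calc p = p ^ 1 := (pow_one p).symm
        _ < p ^ a := Nat.pow_lt_pow_right hp.out.one_lt ha2
    have hep : e ≤ p - 1 := Nat.le_of_dvd (by omega) hedvd
    have hoX : o ∈ Xs := by
      refine ((hmemB o).1 hoB).resolve_right fun h => ?_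
      rw [hYone h, Finset.card_singleton, one_mul] at hYcard
      omega
    have hmod : ∀ (x : ℕ) (y : ℤ), (x : ℤ) ≡ y [ZMOD (p : ℤ) ^ a] →
        ((p ^ a : ℕ) : ℤ) ∣ y - x := fun x y h => by
      rw [Nat.cast_pow]; exact Int.ModEq.dvd h
    refine ⟨Finset.mem_filter.2 ⟨Finset.mem_univ _, hoX⟩, fun χ hχ hne => ?_, fun χ hχ => ?_⟩
    · have hχX := (Finset.mem_filter.1 hχ).2
      have h := (hcX χ hχX o hoX).dvd
      have hdo' : charDegree (o : G → ℂ) = 1 := hdo
      rw [hdo', ← Nat.cast_pow] at h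
      have h2 := hdeg χ hne
      change (( p ^ a : ℕ) : ℤ) ∣ δ o * ((1 : ℕ) : ℤ) - δ χ * (d χ : ℤ) at h
      rcases hδ χ hχX with h3 | h3 <;> rcases hδ o hoX with h4 | h4 <;> rw [h3, h4] at h <;>
      · obtain ⟨k, hk⟩ := h
        have hk0 : k ≠ 0 := by rintro rfl; omega
        have h5 : ((p ^ a : ℕ) : ℤ) ≤ |((p ^ a : ℕ) : ℤ) * k| := by
          rw [abs_mul, Nat.abs_cast]
          exact le_mul_of_one_le_right (Int.natCast_nonneg _) (Int.one_le_abs hk0)
        rcases abs_choice (((p ^ a : ℕ) : ℤ) * k) with h6 | h6 <;> omega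
    · have hχY := (Finset.mem_filter.1 hχ).2
      have h := (hcY χ hχY o hoX).dvd
      have hdo' : charDegree (o : G → ℂ) = 1 := hdo
      rw [hdo', ← Nat.cast_pow] at h
      change (( p ^ a : ℕ) : ℤ) ∣ -((e : ℤ) * δ₀ * δ o * ((1 : ℕ) : ℤ)) - (d χ : ℤ) at h
      have hneY : χ ≠ o := fun hh => Set.disjoint_left.1 hdis hoX (hh ▸ hχY)
      have hnee : d χ ≠ e := by
        intro hh
        have hwt : ∀ η ∈ Yf, s η = -(e : ℤ) := by
          intro η hη
          have hη' := (Finset.mem_filter.1 hη).2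
          have hde : d η = e := by rw [hYd η hη', ← hYd χ hχY, hh]
          have h1 : (η : G → ℂ) 1 = (e : ℕ) := by rw [← hdc η, hde]
          have := wt_eq_neg P hP X hXP hX (ψ := η) (by rw [← hC, ← hN, ← he]; exact h1)
            (by rw [h1]; exact_mod_cast (show e ≠ 1 by omega))
          rw [hs η, ← hC, ← hN, ← he] at this
          exact_mod_cast this
        have h1 : |S| = ((p ^ a - 1 : ℕ) : ℤ) := by
          rw [hS, Finset.sum_congr rfl hwt, Finset.sum_const, nsmul_eq_mul, ← hYcard, abs_mul,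
            abs_neg, Nat.abs_cast, Nat.abs_cast, Nat.cast_mul]
        rw [hSabs] at h1
        omega
      have h2 := hdeg χ hneY
      have hlarge : p ^ a ≤ d χ + e := by
        rcases hδ o hoX with h4 | h4 <;> rcases hδ₀ with h3 | h3 <;> rw [h3, h4] at h <;>
        · obtain ⟨k, hk⟩ := h
          have hk0 : k ≠ 0 := by rintro rfl; omega
          have h5 : ((p ^ a : ℕ) : ℤ) ≤ |((p ^ a : ℕ) : ℤ) * k| := by
            rw [abs_mul, Nat.abs_cast]
            exact le_mul_of_one_le_right (Int.natCast_nonneg _) (Int.one_le_abs hk0)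
          rcases abs_choice (((p ^ a : ℕ) : ℤ) * k) with h6 | h6 <;> omega
      refine ⟨hlarge, fun hs0 => ?_⟩
      have hpd : (p : ℤ) ∣ (d χ : ℤ) := by
        have := hsmod χ
        rwa [hs0, zero_add] at this
      have hpe : (p : ℤ) ∣ (e : ℤ) * δ₀ * δ o * ((1 : ℕ) : ℤ) := by
        have h7 : (p : ℤ) ∣ ((p ^ a : ℕ) : ℤ) := Int.natCast_dvd_natCast.2 (dvd_pow_self p (by omega))
        have := (h7.trans h).add hpd
        rwa [sub_add_cancel, dvd_neg] at this
      have hpe' : p ∣ e := by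
        rcases hδ o hoX with h4 | h4 <;> rcases hδ₀ with h3 | h3 <;> rw [h3, h4] at hpe <;>
          simp at hpe <;> exact Int.natCast_dvd_natCast.1 (by simpa using hpe)
      have := Nat.le_of_dvd (by omega) hpe'
      omega
  · intro h4
    exact absurd hp.out (h4 ▸ (by norm_num))

end Cfsg.Agent.FGS4.CyclicPairs
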