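import Mathlib
import Cfsg.Agent.FGS4.CyclicPairs.Main

/-!
Reduction to simple groups.
-/

set_option autoImplicit false
set_option linter.style.haveILetI false

namespace Cfsg.Agent.FGS4.CyclicPairs

open Cfsg Cfsg.Agent

universe u

variable {p : ℕ} [hp : Fact p.Prime]

theorem isPSolvable_of_coprime {G : Type*} [Group G] [Finite G] (h : (Nat.card G).Coprime p) :
    IsPSolvable p G :=
  Core.isPSolvable_iff.2 (Core.isPiSeparable_compl
    (Core.isPiSeparable_of_isPiNat (π := ({p} : Set ℕ)ᶜ)
      ((Core.isPiNat_compl_singleton_iff_coprime hp.out).2 h)) |> fun h' => by simpa using h')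

theorem isPSolvable_of_pgroup {G : Type*} [Group G] [Finite G] (h : IsPGroup p G) : IsPSolvable p G := by
  haveI := h.isNilpotent
  exact Core.isPSolvable_of_isSolvable

/-- A group with cyclic Sylow subgroups and a normal subgroup of order `p` is `p`-solvable. -/
theorem isPSolvable_of_normal_order_p {G : Type u} [Group G] [Finite G] (P : Sylow p G)
    (hP : IsCyclic (P : Subgroup G)) (X : Subgroup G) [X.Normal] (hX : Nat.card X = p) :
    IsPSolvable p G := by
  haveI := hP
  haveI : IsCyclic X := isCyclic_of_prime_card hX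
  obtain ⟨⟨x, hxX⟩, hx⟩ := IsCyclic.exists_generator (α := X)
  have hxP : X ≤ (P : Subgroup G) :=
    (IsPGroup.of_card (n := 1) (by rw [hX, pow_one])).le_sylow_of_normal P
  have hx1 : x ≠ 1 := by
    intro h
    have h1 := orderOf_eq_card_of_forall_mem_zpowers hx
    rw [hX, ← Subgroup.orderOf_coe, show ((⟨x, hxX⟩ : X) : G) = x from rfl, h, orderOf_one] at h1
    exact hp.out.one_lt.ne h1
  set C := Subgroup.centralizer (X : Set G) with hC
  have hCx : C = Subgroup.centralizer ({x} : Set G) := by
    refine le_antisymm (Subgroup.centralizer_le (by simpa using hxX)) fun g hg => ?_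
    rw [Subgroup.mem_centralizer_iff]
    intro y hy
    obtain ⟨i, hi⟩ := Subgroup.mem_zpowers_iff.1 (hx ⟨y, hy⟩)
    have hiy : x ^ i = y := congrArg Subtype.val hi
    rw [← hiy]
    exact ((Commute.zpow_left (show Commute x g from
      (Subgroup.mem_centralizer_singleton_iff.1 hg).symm) i)).eq
  haveI : (pPrimeCore p C).Normal := inferInstance
  refine Core.isPSolvable_of_normal C ?_ ?_
  · refine Core.isPSolvable_of_normal (pPrimeCore p C)
      (isPSolvable_of_coprime (Core.card_pPrimeCore_coprime p C)) (isPSolvable_of_pgroup ?_)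
    obtain ⟨a, ha⟩ := IsPGroup.iff_card.1 P.isPGroup'
    refine IsPGroup.of_card (n := a) ?_
    have h := (mem_centralizerPPrimeCore P hP (hxP hxX) hx1 (Commute.one_right x)
      (by rw [orderOf_one]; exact hp.out.not_dvd_one)).2
    rw [centralizerPPrimeCore, Subgroup.card_map_of_injective (Subgroup.subtype_injective _), ha,
      ← hCx] at h
    rw [Subgroup.card_eq_card_quotient_mul_card_subgroup (pPrimeCore p C), mul_comm] at h
    exact Nat.eq_of_mul_eq_mul_left Nat.card_pos h
  · refine isPSolvable_of_coprime ?_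
    rw [← Subgroup.index_eq_card]
    have hle : X.normalizerMonoidHom.ker.index = Nat.card X.normalizerMonoidHom.range :=
      Subgroup.index_ker _
    have hdvd : Nat.card X.normalizerMonoidHom.range ∣ p - 1 := by
      refine (Subgroup.card_subgroup_dvd_card _).trans ?_
      rw [IsCyclic.card_mulAut, hX, Nat.totient_prime hp.out]
    have hidx : C.index ∣ p - 1 := by
      rw [Subgroup.normalizerMonoidHom_ker] at hle
      have h2 : C.index = C.relIndex (Subgroup.normalizer (X : Set G)) := by
        rw [Subgroup.normalizer_eq_top_iff.2 inferInstance, Subgroup.relIndex_top_right]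
      rw [h2, Subgroup.relIndex, hle]
      exact hdvd
    refine ((hp.out.coprime_iff_not_dvd.2 fun h => ?_)).symm
    have := Nat.le_of_dvd (by have := hp.out.two_le; omega) (h.trans hidx)
    have := hp.out.two_le
    omega

/-- The criterion. -/
theorem main : ∀ (n : ℕ) (G : Type u) [Group G] [Finite G] (P : Sylow p G),
    Nat.card G = n → IsCyclic (P : Subgroup G) →
      (∀ x y : G, orderOf x = p → orderOf y = p →
        IsPSolvable p ↥(Subgroup.closure ({x, y} : Set G))) → IsPSolvable p G := by
  intro n
  induction n using Nat.strong_induction_on with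
  | _ n ih =>
  intro G _ _ P hn hP hpair
  haveI := Fintype.ofFinite G
  by_cases hdvd : p ∣ Nat.card G
  swap
  · exact isPSolvable_of_coprime (hp.out.coprime_iff_not_dvd.2 hdvd).symm
  by_cases hN : ∃ N : Subgroup G, N.Normal ∧ N ≠ ⊥ ∧ N ≠ ⊤
  · obtain ⟨N, hNn, hNb, hNt⟩ := hN
    have hsub : ∀ N : Subgroup G, N ≠ ⊤ → IsPSolvable p N := by
      intro H hH
      have hlt : Nat.card H < Nat.card G :=
        lt_of_le_of_ne (Nat.le_of_dvd Nat.card_pos (Subgroup.card_subgroup_dvd_card H))
          fun h => hH (Subgroup.eq_top_of_card_eq _ h)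
      obtain ⟨Q⟩ := (inferInstance : Nonempty (Sylow p H))
      refine ih _ (hn ▸ hlt) H Q rfl (cyclic_subgroup P hP H Q) fun x y hx hy => ?_
      have h := hpair x y (by rw [Subgroup.orderOf_coe, hx]) (by rw [Subgroup.orderOf_coe, hy])
      refine Core.isPSolvable_congr ?_ h
      refine (MulEquiv.subgroupCongr ?_).trans
        ((Subgroup.closure ({x, y} : Set H)).equivMapOfInjective _ H.subtype_injective).symm
      rw [MonoidHom.map_closure, Set.image_pair]
      rfl
    by_cases hpN : p ∣ Nat.card N
    · -- a characteristic core of `N` is normal in `G`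
      by_cases hK : ∃ K : Subgroup G, K.Normal ∧ K ≠ ⊥ ∧ ¬ p ∣ Nat.card K
      swap
      · haveI : Nontrivial N := (Subgroup.nontrivial_iff_ne_bot N).2 hNb
        rcases Core.piCore_ne_bot_or (Core.isPSolvable_iff.1 (hsub N hNt)) with h | h
        · set R : Subgroup G := (piCore {p} N).map N.subtype with hR
          haveI : R.Normal := by
            rw [hR, ← Core.pCore_eq_piCore]
            exact ConjAct.normal_of_characteristic_of_normal
          have hRp : IsPGroup p R := by
            rw [hR, ← Core.pCore_eq_piCore]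
            exact (Core.isPGroup_pCore p N).map _
          have hRne : R ≠ ⊥ := by
            rwa [hR, Ne, Subgroup.map_eq_bot_iff_of_injective _ N.subtype_injective]
          haveI : Nontrivial R := (Subgroup.nontrivial_iff_ne_bot R).2 hRne
          obtain ⟨z, hz⟩ := exists_prime_orderOf_dvd_card' (G := R) p
            (hRp.card_eq_or_dvd.resolve_left Finite.one_lt_card.ne')
          have hzR : Subgroup.zpowers (z : G) ≤ R := Subgroup.zpowers_le.2 z.2
          have hzc : Nat.card (Subgroup.zpowers (z : G)) = p := by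
            rw [Nat.card_zpowers, Subgroup.orderOf_coe, hz]
          haveI : (Subgroup.zpowers (z : G)).Normal := by
            rw [← Subgroup.normalizer_eq_top_iff, eq_top_iff]
            intro g _
            rw [Subgroup.mem_normalizer_iff_map_conj_eq]
            refine eq_of_order_p P hP hRp ?_ hzR (Subgroup.card_map_of_injective (MulAut.conj g).injective)
            rintro _ ⟨w, hw, rfl⟩
            exact (inferInstance : R.Normal).conj_mem w (hzR hw) g
          exact isPSolvable_of_normal_order_p P hP _ hzc
        · exfalso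
          refine hK ⟨(pPrimeCore p N).map N.subtype, ConjAct.normal_of_characteristic_of_normal, ?_, ?_⟩
          · rw [Ne, Subgroup.map_eq_bot_iff_of_injective _ N.subtype_injective]
            rwa [Core.pPrimeCore_eq_piCore]
          · rw [Subgroup.card_map_of_injective N.subtype_injective]
            exact Core.not_dvd_card_pPrimeCore p N
      obtain ⟨K, hKn, hKb, hKp⟩ := hK
      exact quotientCase ih P hn hP hpair K hKb hKp
    · exact quotientCase ih P hn hP hpair N hNb hpN
  · by_cases hab : ∀ a b : G, a * b = b * a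
    · letI : CommGroup G := { (inferInstance : Group G) with mul_comm := hab }
      exact Core.isPSolvable_of_isSolvable
    · haveI : Nontrivial G := Finite.one_lt_card_iff_nontrivial.1
        (lt_of_lt_of_le hp.out.one_lt (Nat.le_of_dvd Nat.card_pos hdvd))
      haveI : IsSimpleGroup G := ⟨fun N hNn => by
        by_contra h
        push Not at h
        exact hN ⟨N, hNn, h.1, h.2⟩⟩
      exact (simple_false hab hdvd P hP hpair).elim
where
  quotientCase {n : ℕ} (ih : ∀ m < n, ∀ (G : Type u) [Group G] [Finite G] (P : Sylow p G),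
      Nat.card G = m → IsCyclic (P : Subgroup G) →
        (∀ x y : G, orderOf x = p → orderOf y = p →
          IsPSolvable p ↥(Subgroup.closure ({x, y} : Set G))) → IsPSolvable p G)
      {G : Type u} [Group G] [Finite G] (P : Sylow p G) (hn : Nat.card G = n)
      (hP : IsCyclic (P : Subgroup G))
      (hpair : ∀ x y : G, orderOf x = p → orderOf y = p →
        IsPSolvable p ↥(Subgroup.closure ({x, y} : Set G)))
      (K : Subgroup G) [K.Normal] (hKb : K ≠ ⊥) (hKp : ¬ p ∣ Nat.card K) : IsPSolvable p G := by
    refine Core.isPSolvable_of_normal K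
      (isPSolvable_of_coprime (hp.out.coprime_iff_not_dvd.2 hKp).symm) ?_
    have hlt : Nat.card (G ⧸ K) < n := by
      rw [← hn, ← Subgroup.index_mul_card K]
      exact lt_mul_of_one_lt_right Nat.card_pos ((Subgroup.one_lt_card_iff_ne_bot K).2 hKb)
    obtain ⟨Q⟩ := (inferInstance : Nonempty (Sylow p (G ⧸ K)))
    refine ih _ hlt (G ⧸ K) Q rfl (cyclic_quotient P hP K Q) fun x y hx hy => ?_
    have hlift : ∀ q : G ⧸ K, orderOf q = p → ∃ g : G, orderOf g = p ∧ (g : G ⧸ K) = q := by
      intro q hq
      obtain ⟨g, rfl⟩ := QuotientGroup.mk_surjective q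
      haveI := Fintype.ofFinite G
      obtain ⟨l, hgl, hcom, ⟨j, hj⟩, hl⟩ := Blocks.isPPart_ppart (p := p) g
      have hl1 : (l : G ⧸ K) = 1 := by
        have h2 : (g : G ⧸ K) = ((Blocks.ppart p g : G) : G ⧸ K) * (l : G ⧸ K) := by
          rw [← QuotientGroup.mk_mul, hgl]
        have hc2 : Commute ((Blocks.ppart p g : G) : G ⧸ K) (l : G ⧸ K) := hcom.map (QuotientGroup.mk' K)
        have h1 : orderOf (l : G ⧸ K) ∣ p ^ (j + 1) := by
          have e1 : (l : G ⧸ K) = ((Blocks.ppart p g : G) : G ⧸ K)⁻¹ * (g : G ⧸ K) := by rw [h2]; group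
          rw [e1]
          refine orderOf_dvd_of_pow_eq_one ?_
          have hc3 : Commute ((Blocks.ppart p g : G) : G ⧸ K)⁻¹ (g : G ⧸ K) := by
            rw [h2]; exact ((Commute.refl _).inv_left).mul_right hc2.inv_left
          rw [hc3.mul_pow, inv_pow, pow_succ, pow_mul, pow_mul', orderOf_dvd_iff_pow_eq_one.1 (dvd_of_eq hq),
            one_pow, mul_one, inv_eq_one, ← QuotientGroup.mk_pow,
            orderOf_dvd_iff_pow_eq_one.1 (dvd_of_eq hj), QuotientGroup.mk_one, one_pow]
        exact orderOf_eq_one_iff.1 (Nat.eq_one_of_dvd_coprimes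
          ((hp.out.coprime_iff_not_dvd.2 hl).pow_left (j + 1)) h1 (orderOf_map_dvd (QuotientGroup.mk' K) l))
      refine ⟨Blocks.ppart p g, ?_, ?_⟩
      · have hz : ((Blocks.ppart p g : G) : G ⧸ K) = (g : G ⧸ K) := by
          conv_rhs => rw [← hgl, QuotientGroup.mk_mul, hl1, mul_one]
        have h2 : p ∣ orderOf (Blocks.ppart p g) := by
          exact (dvd_of_eq (hq.symm.trans (congrArg orderOf hz.symm))).trans
            (orderOf_map_dvd (QuotientGroup.mk' K) _)
        refine (Nat.dvd_antisymm ?_ h2)
        refine orderOf_dvd_of_pow_eq_one ?_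
        by_contra hne
        have hmem : Blocks.ppart p g ^ p ∈ K := by
          rw [← QuotientGroup.eq_one_iff, QuotientGroup.mk_pow, hz,
            orderOf_dvd_iff_pow_eq_one.1 (dvd_of_eq hq)]
        apply hne
        rw [← orderOf_eq_one_iff]
        exact Nat.eq_one_of_dvd_coprimes ((hp.out.coprime_iff_not_dvd.2 hKp).pow_left j)
          (hj ▸ orderOf_pow_dvd p) (Subgroup.orderOf_dvd_natCard _ hmem)
      · conv_rhs => rw [← hgl, QuotientGroup.mk_mul, hl1, mul_one]
    obtain ⟨gx, hgx, rfl⟩ := hlift x hx
    obtain ⟨gy, hgy, rfl⟩ := hlift y hy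
    set H := Subgroup.closure ({gx, gy} : Set G) with hH
    have himg : H.map (QuotientGroup.mk' K) = Subgroup.closure ({(gx : G ⧸ K), (gy : G ⧸ K)} : Set (G ⧸ K)) := by
      rw [hH, MonoidHom.map_closure, Set.image_pair]; rfl
    refine Core.isPSolvable_congr ((QuotientGroup.quotientKerEquivOfSurjective _
      (MonoidHom.subgroupMap_surjective (QuotientGroup.mk' K) H)).trans (MulEquiv.subgroupCongr himg)) ?_
    exact Core.isPSolvable_quotient (hpair gx gy hgx hgy) _

end Cfsg.Agent.FGS4.CyclicPairs
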